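import Cfsg.Agent.H37.GNE
import Cfsg.Agent.Lib.FrattiniBasic

/-!
# Uniform Glauberman–Niles: lemma (D)

In a rank one pushing-up group `G` with Sylow group `S`, `T = O_p(G)`, `Z(S)` elementary: if
`S₀ ∩ Z(S) ≰ Z(G)` then `S₀ ∩ [Z(T), S] ≰ Z(G)`.
-/

set_option autoImplicit false
set_option linter.unusedSectionVars false

namespace Cfsg.Agent.H37.GND

open Subgroup
open Cfsg.Agent.H260.Push Cfsg.Agent.H37.GNE
open scoped commutatorElement

section char

variable {X : Type*} [Group X]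

theorem char_of_char {H : Subgroup X} (hH : H.Characteristic) {K : Subgroup H}
    (hK : K.Characteristic) : (K.map H.subtype).Characteristic := by
  rw [characteristic_iff_map_le]
  intro φ x hx
  obtain ⟨y, ⟨k, hk, rfl⟩, rfl⟩ := hx
  let φ' : H ≃* H := (φ.subgroupMap H).trans
    (MulEquiv.subgroupCongr (characteristic_iff_map_eq.1 hH φ))
  have h1 : φ' k ∈ K := by
    have h2 := characteristic_iff_map_eq.1 hK φ'
    rw [← h2]
    exact ⟨k, hk, rfl⟩
  exact ⟨φ' k, h1, rfl⟩

theorem norm_map_char (A : Subgroup X) {K : Subgroup A} (hK : K.Characteristic) :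
    normalizer (A : Set X) ≤ normalizer ((K.map A.subtype : Subgroup X) : Set X) := by
  have key : ∀ s ∈ normalizer (A : Set X), ∀ f ∈ K.map A.subtype, s * f * s⁻¹ ∈ K.map A.subtype := by
    intro s hs f hf
    obtain ⟨f, hf, rfl⟩ := hf
    have h1 : K.comap (normalizerMonoidHom A ⟨s, hs⟩).toMonoidHom = K := hK.fixed _
    rw [← h1] at hf
    exact ⟨_, hf, rfl⟩
  intro s hs
  rw [mem_normalizer_iff]
  intro x
  refine ⟨key s hs x, fun hx => ?_⟩
  have h2 := key _ (inv_mem hs) _ hx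
  have e : s⁻¹ * (s * x * s⁻¹) * s⁻¹⁻¹ = x := by group
  rwa [e] at h2

theorem powerClosure_char (p n : ℕ) (A : Type*) [Group A] :
    (Cfsg.powerClosure p n (⊤ : Subgroup A)).Characteristic := by
  rw [characteristic_iff_map_le]
  intro φ
  unfold Cfsg.powerClosure
  rw [MonoidHom.map_closure, closure_le]
  rintro _ ⟨y, ⟨x, -, rfl⟩, rfl⟩
  apply Subgroup.subset_closure
  exact ⟨φ x, mem_top _, by simp⟩

theorem S0_char (p : ℕ) (A : Type*) [Group A] (S₀ : Subgroup A)
    (hS₀ : S₀ = if p = 2 then ⁅frattini A, (⊤ : Subgroup A)⁆ ⊔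
        (frattini ↥(frattini A)).map (frattini A).subtype
      else if p = 3 then ⁅⁅frattini A, (⊤ : Subgroup A)⁆, (⊤ : Subgroup A)⁆ ⊔
        (frattini ↥(frattini A)).map (frattini A).subtype
      else ⁅frattini A, (⊤ : Subgroup A)⁆ ⊔ Cfsg.powerClosure p 1 (⊤ : Subgroup A)) :
    S₀.Characteristic := by
  have h1 : ((frattini ↥(frattini A)).map (frattini A).subtype).Characteristic :=
    char_of_char frattini_characteristic frattini_characteristic
  have h2 := powerClosure_char p 1 A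
  have h3 : (frattini A).Characteristic := frattini_characteristic
  rw [hS₀]
  split_ifs <;> infer_instance

end char

variable {G : Type*} [Group G] [Finite G] {p q : ℕ} [Fact p.Prime] {S T M : Subgroup G}

theorem card_ker_range {A B : Type*} [Group A] [Finite A] [Group B] (f : A →* B) :
    Nat.card f.ker * Nat.card f.range = Nat.card A := by
  rw [← Subgroup.index_ker]
  exact card_mul_index _

theorem card_map_mk {A N : Subgroup G} [N.Normal] (hNA : N ≤ A) :
    Nat.card N * Nat.card (A.map (QuotientGroup.mk' N)) = Nat.card A := by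
  have h1 := card_ker_range ((QuotientGroup.mk' N).comp A.subtype)
  have h2 : ((QuotientGroup.mk' N).comp A.subtype).range = A.map (QuotientGroup.mk' N) := by
    rw [MonoidHom.range_comp, range_subtype]
  have h3 : ((QuotientGroup.mk' N).comp A.subtype).ker = N.subgroupOf A := by
    rw [← MonoidHom.comap_ker, QuotientGroup.ker_mk']
    rfl
  rw [h2, h3, Nat.card_congr (subgroupOfEquivOfLe hNA).toEquiv] at h1
  exact h1

section K

variable (c : Core p q S T M) (n : Core.Nat' p q S T M)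
include c n

theorem q_gt : 1 < q := by
  rcases Nat.lt_or_ge 1 q with h | h
  · exact h
  · exfalso
    have h1 := c.qpos
    have h2 : q = 1 := by omega
    have h3 := n.cardX
    have h4 := c.card
    rw [h2, one_mul] at h3 h4
    have h5 : T = S := eq_of_le_of_card_le c.le h4.le
    apply c.neM
    rw [eq_top_iff]
    have h6 : T.Normal := c.normT
    obtain ⟨g, hg⟩ : ∃ g : G, g ∉ M := by
      by_contra hcon
      push Not at hcon
      exact c.neM (eq_top_iff.2 fun x _ => hcon x)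
    have h7 := c.gen g hg
    rw [← h5, cj_normal g T, sup_idem, h5] at h7
    rw [← h7]
    exact c.leM

theorem exists_cm {v : G} (hv : v ∈ cen T) (hvS : v ∉ cen S) {z : G} (hz : z ∈ cen S) :
    ∃ s ∈ S, ∃ w ∈ center G, cm v s = z * w := by
  let f : S →* G ⧸ center G :=
    { toFun := fun s => ((cm v (s : G) : G) : G ⧸ center G)
      map_one' := by simp [cm]
      map_mul' := by
        intro s t
        change ((cm v ((s : G) * (t : G)) : G) : G ⧸ center G) = _
        rw [c.cm_mul n.quad hv s.2 t.2, QuotientGroup.mk_mul] }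
  have hker : Nat.card f.ker ≤ Nat.card T := by
    have h1 : f.ker.map S.subtype ≤ T := by
      rintro _ ⟨s, hs, rfl⟩
      by_contra hsT
      apply hvS
      apply n.cmc (s : G) s.2 hsT v hv
      have h2 : ((cm v (s : G) : G) : G ⧸ center G) = 1 := hs
      exact (QuotientGroup.eq_one_iff _).1 h2
    have h3 : Nat.card (f.ker.map S.subtype) = Nat.card f.ker :=
      Subgroup.card_map_of_injective S.subtype_injective
    rw [← h3]
    exact Nat.card_mono (Set.toFinite _) h1
  have hr := card_ker_range f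
  have hle : f.range ≤ (cen S).map (QuotientGroup.mk' (center G)) := by
    rintro _ ⟨s, rfl⟩
    exact ⟨cm v (s : G), n.quad v hv s s.2, rfl⟩
  have hm := card_map_mk c.center_le
  rw [n.cardZ] at hm
  have hcS := c.card
  have p1 : 0 < Nat.card T := Nat.card_pos
  have p2 : 0 < Nat.card (center G) := Nat.card_pos
  have hm' : Nat.card ((cen S).map (QuotientGroup.mk' (center G))) = q := by
    have : Nat.card (center G) * Nat.card ((cen S).map (QuotientGroup.mk' (center G))) =
      Nat.card (center G) * q := by rw [hm]; ring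
    exact Nat.eq_of_mul_eq_mul_left p2 this
  have hq : q ≤ Nat.card f.range := by
    have h4 : q * Nat.card T ≤ Nat.card f.range * Nat.card T := by
      calc q * Nat.card T = Nat.card S := hcS.symm
        _ = Nat.card f.ker * Nat.card f.range := hr.symm
        _ ≤ Nat.card T * Nat.card f.range := Nat.mul_le_mul_right _ hker
        _ = _ := by ring
    exact Nat.le_of_mul_le_mul_right h4 p1
  have heq : f.range = (cen S).map (QuotientGroup.mk' (center G)) :=
    eq_of_le_of_card_le hle (by rw [hm']; exact hq)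
  have hzm : ((z : G) : G ⧸ center G) ∈ f.range := by
    rw [heq]
    exact ⟨z, hz, rfl⟩
  obtain ⟨s, hs⟩ := hzm
  refine ⟨s, s.2, z⁻¹ * cm v s, ?_, by group⟩
  exact QuotientGroup.eq.1 hs.symm

omit c n [Finite G] in
/-- conjugate modulo the centre -/
def Rl (a b : G) : Prop := ∃ x : G, ∃ w ∈ center G, x * a * x⁻¹ = b * w

omit c n [Finite G] in
theorem Rl.symm {a b : G} (h : Rl a b) : Rl b a := by
  obtain ⟨x, w, hw, e⟩ := h
  refine ⟨x⁻¹, w⁻¹, inv_mem hw, ?_⟩
  have hb : b = x * a * x⁻¹ * w⁻¹ := by rw [e]; group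
  have hw' := mem_center_iff.1 (inv_mem hw)
  rw [hb]
  have h1 : x⁻¹ * (x * a * x⁻¹ * w⁻¹) * x⁻¹⁻¹ = a * (x⁻¹ * w⁻¹) * x := by group
  rw [h1, hw' x⁻¹]
  group

omit c n [Finite G] in
theorem Rl.trans {a b d : G} (h : Rl a b) (h' : Rl b d) : Rl a d := by
  obtain ⟨x, w, hw, e⟩ := h
  obtain ⟨y, u, hu, e'⟩ := h'
  refine ⟨y * x, u * w, mul_mem hu hw, ?_⟩
  have hw' := mem_center_iff.1 hw
  calc y * x * a * (y * x)⁻¹ = y * (x * a * x⁻¹) * y⁻¹ := by group
    _ = y * b * (w * y⁻¹) := by rw [e]; group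
    _ = y * b * (y⁻¹ * w) := by rw [hw' y⁻¹]
    _ = (y * b * y⁻¹) * w := by group
    _ = _ := by rw [e']; group

theorem Rl_one {v z : G} (hv : v ∈ cen T) (hvS : v ∉ cen S) (hz : z ∈ cen S) : Rl v (z * v) := by
  obtain ⟨s, hs, w, hw, e⟩ := exists_cm c n hv hvS hz
  refine ⟨s, w, hw, ?_⟩
  have h1 : s * v * s⁻¹ = cm v s * v := by unfold cm; group
  rw [h1, e, mul_assoc, ← mem_center_iff.1 hw v, mul_assoc]

theorem Rl_two {g v z : G} (hv : v ∈ cen T) (hvS : v ∉ cj g (cen S)) (hz : z ∈ cj g (cen S)) :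
    Rl v (z * v) := by
  have hv' : g⁻¹ * v * g ∈ cen T := by
    have := c.normX.conj_mem v hv g⁻¹
    simpa using this
  rw [mem_cj] at hvS hz
  obtain ⟨x, w, hw, e⟩ := Rl_one c n hv' hvS hz
  refine ⟨g * x * g⁻¹, w, hw, ?_⟩
  have hw' := mem_center_iff.1 hw
  calc g * x * g⁻¹ * v * (g * x * g⁻¹)⁻¹ = g * (x * (g⁻¹ * v * g) * x⁻¹) * g⁻¹ := by group
    _ = g * (g⁻¹ * z * g * (g⁻¹ * v * g)) * (w * g⁻¹) := by rw [e]; group
    _ = g * (g⁻¹ * z * g * (g⁻¹ * v * g)) * (g⁻¹ * w) := by rw [hw' g⁻¹]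
    _ = _ := by group

/-- `G` is transitive on the nontrivial cosets of the centre in `Z(S)` -/
theorem Rl_all {d e : G} (hd : d ∈ cen S) (hdc : d ∉ center G) (he : e ∈ cen S)
    (hec : e ∉ center G) : Rl d e := by
  obtain ⟨g, hg⟩ : ∃ g : G, g ∉ M := by
    by_contra hcon
    push Not at hcon
    exact c.neM (eq_top_iff.2 fun x _ => hcon x)
  set a := g * d * g⁻¹ with ha
  have haj : a ∈ cj g (cen S) := conj_mem_cj hd
  have haT : a ∈ cen T := c.normX.conj_mem d (c.Zs_le hd) g
  have hac : a ∉ center G := by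
    intro h
    apply hdc
    have := (inferInstance : (center G).Normal).conj_mem a h g⁻¹
    have e1 : g⁻¹ * a * g⁻¹⁻¹ = d := by rw [ha]; group
    rwa [e1] at this
  have two : ∀ x ∈ cen S, x ∈ cj g (cen S) → x ∈ center G := by
    intro x hx hx'
    apply c.central_of_two (a := 1) (b := g) (by simpa using hg) _ hx'
    rwa [cj_one]
  have haS : a ∉ cen S := fun h => hac (two a h haj)
  have key : ∀ y ∈ cen S, y ∉ center G → Rl y a := by
    intro y hy hyc
    have hyT := c.Zs_le hy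
    have hyj : y ∉ cj g (cen S) := fun h => hyc (two y hy h)
    have r1 : Rl y (a * y) := Rl_two c n hyT hyj haj
    have r2 : Rl a (y * a) := Rl_one c n haT haS hy
    have e1 : a * y = y * a := (cen_comm haT (cen_le T hyT)).symm
    rw [e1] at r1
    exact r1.trans r2.symm
  exact (key d hd hdc).trans (key e he hec).symm

/-- **(N)** `N_G(S)` is transitive on the nontrivial cosets of the centre in `Z(S)`. -/
theorem norm_trans {d e : G} (hd : d ∈ cen S) (hdc : d ∉ center G) (he : e ∈ cen S)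
    (hec : e ∉ center G) : ∃ m ∈ normalizer (S : Set G), ∃ w ∈ center G, m * d * m⁻¹ = e * w := by
  obtain ⟨x, w, hw, hx⟩ := Rl_all c n hd hdc he hec
  obtain ⟨P, hP⟩ := c.syl
  have hf : e * w ∈ cen S := mul_mem he (c.center_le hw)
  have h1 : (P : Subgroup G) ≤ centralizer {e * w} := by
    rw [hP]
    intro s hs
    rw [mem_centralizer_singleton_iff]
    exact cen_comm hf hs
  have h2 : cj x (P : Subgroup G) ≤ centralizer {e * w} := by
    rw [hP, ← hx]
    intro s hs
    rw [mem_cj] at hs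
    rw [mem_centralizer_singleton_iff]
    have h3 := cen_comm hd hs
    have e1 : s * (x * d * x⁻¹) = x * (x⁻¹ * s * x * d) * x⁻¹ := by group
    have e2 : x * d * x⁻¹ * s = x * (d * (x⁻¹ * s * x)) * x⁻¹ := by group
    rw [e1, e2, h3]
  obtain ⟨m, hm, hmn⟩ := exists_conj_of_le h1 h2
  rw [hP] at hmn
  refine ⟨m⁻¹ * x, hmn, w, hw, ?_⟩
  rw [mem_centralizer_singleton_iff] at hm
  calc m⁻¹ * x * d * (m⁻¹ * x)⁻¹ = m⁻¹ * (x * d * x⁻¹) * m := by group
    _ = m⁻¹ * (e * w * m) := by rw [hx]; group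
    _ = m⁻¹ * (m * (e * w)) := by rw [hm]
    _ = _ := by group

/-- `Z(S) ≤ [Z(T), S] Z(G)` -/
theorem exists_D {z : G} (hz : z ∈ cen S) : ∃ d ∈ ⁅cen T, S⁆, ∃ w ∈ center G, z = d * w := by
  have hq := q_gt c n
  obtain ⟨v, hv, hvS⟩ : ∃ v ∈ cen T, v ∉ cen S := by
    by_contra hcon
    push Not at hcon
    have h1 := n.cardX
    have h2 : Nat.card (cen T) ≤ Nat.card (cen S) := Nat.card_mono (Set.toFinite _) hcon
    have h3 : 0 < Nat.card (cen S) := Nat.card_pos
    rw [h1] at h2
    nlinarith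
  obtain ⟨s, hs, w, hw, e⟩ := exists_cm c n hv hvS hz
  refine ⟨cm v s, ?_, w⁻¹, inv_mem hw, by rw [e]; group⟩
  have e2 : cm v s = ⁅v, s⁆⁻¹ := by
    unfold cm
    rw [commutatorElement_def]; group
  rw [e2]
  exact inv_mem (commutator_mem_commutator hv hs)

/-- the case `q > 2` -/
theorem D_big (hq2 : 2 < q) {R : Subgroup G}
    (hR : normalizer (S : Set G) ≤ normalizer (R : Set G))
    (h0 : ¬ R ⊓ cen S ≤ center G) : ¬ R ⊓ ⁅cen T, S⁆ ≤ center G := by
  intro hcon
  obtain ⟨y, ⟨hyR, hyS⟩, hyc⟩ := SetLike.not_le_iff_exists.1 h0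
  obtain ⟨d, hd, w, hw, e⟩ := exists_D c n hyS
  -- an element of `Z(S)` outside `Z(G) ∪ y Z(G)`
  obtain ⟨f, hf, hfc, hfy⟩ : ∃ f ∈ cen S, f ∉ center G ∧ f * y⁻¹ ∉ center G := by
    by_contra hcon2
    push Not at hcon2
    have hm := card_map_mk c.center_le
    rw [n.cardZ] at hm
    have p2 : 0 < Nat.card (center G) := Nat.card_pos
    have hm' : Nat.card ((cen S).map (QuotientGroup.mk' (center G))) = q := by
      have : Nat.card (center G) * Nat.card ((cen S).map (QuotientGroup.mk' (center G))) =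
        Nat.card (center G) * q := by rw [hm]; ring
      exact Nat.eq_of_mul_eq_mul_left p2 this
    have hsub : (((cen S).map (QuotientGroup.mk' (center G)) : Subgroup (G ⧸ center G)) :
        Set (G ⧸ center G)) ⊆ {1, ((y : G) : G ⧸ center G)} := by
      rintro _ ⟨f, hf, rfl⟩
      by_cases hfc : f ∈ center G
      · left
        exact (QuotientGroup.eq_one_iff f).2 hfc
      · right
        have h1 := hcon2 f hf hfc
        rw [Set.mem_singleton_iff]
        symm
        apply QuotientGroup.eq.2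
        have h2 := (inferInstance : (center G).Normal).conj_mem _ h1 f⁻¹
        have e1 : f⁻¹ * (f * y⁻¹) * f⁻¹⁻¹ = y⁻¹ * f := by group
        rwa [e1] at h2
    have h3 := Set.ncard_le_ncard hsub (Set.toFinite _)
    have h4 : ({1, ((y : G) : G ⧸ center G)} : Set (G ⧸ center G)).ncard ≤ 2 := by
      refine (Set.ncard_insert_le _ _).trans ?_
      rw [Set.ncard_singleton]
    rw [← Nat.card_coe_set_eq] at h3
    have h5 : Nat.card ((cen S).map (QuotientGroup.mk' (center G))) ≤ 2 := h3.trans h4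
    omega
  obtain ⟨m, hm, u, hu, em⟩ := norm_trans c n hyS hyc hf hfc
  have hXn : (cen T).Normal := c.normX
  have hDn : normalizer (S : Set G) ≤ normalizer ((⁅cen T, S⁆ : Subgroup G) : Set G) := by
    intro x hx
    rw [← cj_eq_iff_mem_normalizer] at hx ⊢
    unfold cj at hx ⊢
    rw [map_commutator]
    have h1 : (cen T).map (MulAut.conj x).toMonoidHom = cen T := cj_normal x (cen T)
    rw [h1, hx]
  set t := m * y * m⁻¹ * y⁻¹ with ht
  have htR : t ∈ R := mul_mem ((mem_normalizer_iff.1 (hR hm) y).1 hyR) (inv_mem hyR)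
  have htD : t ∈ ⁅cen T, S⁆ := by
    have e1 : t = m * d * m⁻¹ * d⁻¹ := by
      have hw' := mem_center_iff.1 hw
      rw [ht, e]
      calc m * (d * w) * m⁻¹ * (d * w)⁻¹ = m * d * (w * m⁻¹) * w⁻¹ * d⁻¹ := by group
        _ = m * d * (m⁻¹ * w) * w⁻¹ * d⁻¹ := by rw [hw' m⁻¹]
        _ = _ := by group
    rw [e1]
    exact mul_mem ((mem_normalizer_iff.1 (hDn hm) d).1 hd) (inv_mem hd)
  have htc : t ∉ center G := by
    intro h
    apply hfy
    have hu' := mem_center_iff.1 hu
    have e1 : t = f * y⁻¹ * u := by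
      rw [ht, em]
      calc f * u * y⁻¹ = f * (u * y⁻¹) := by group
        _ = f * (y⁻¹ * u) := by rw [hu' y⁻¹]
        _ = _ := by group
    rw [e1] at h
    have := mul_mem h (inv_mem hu)
    have e2 : f * y⁻¹ * u * u⁻¹ = f * y⁻¹ := by group
    rwa [e2] at this
  exact htc (hcon ⟨htR, htD⟩)

end K

/-! ### The case `q = 2` -/

/-- Data: `Φ(S) ≤ Z C`, `Z` central of exponent `p`, `C` normal in `S`. -/
structure Dec2 (p : ℕ) (S C Z : Subgroup G) : Prop where
  hCS : C ≤ S
  hn : S ≤ normalizer (C : Set G)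
  hF : Ph S ≤ Z ⊔ C
  hZ : Z ≤ cen S
  hp : ∀ z ∈ Z, z ^ p = 1

namespace Dec2

variable {C Z : Subgroup G} (h : Dec2 p S C Z)
include h

theorem central {d s : G} (hd : d ∈ Z) (hs : s ∈ S) : s * d = d * s := cen_comm (h.hZ hd) hs

theorem mem_N {x : G} (hx : x ∈ Z ⊔ C) : ∃ d ∈ Z, ∃ r ∈ C, x = d * r := by
  have h1 : Z ≤ normalizer (C : Set G) := (h.hZ.trans (cen_le S)).trans h.hn
  obtain ⟨d, hd, r, hr, e⟩ := Cfsg.Agent.H259.GN.mul_of_sup h1 x hx
  exact ⟨d, hd, r, hr, e.symm⟩

theorem comm_N {x s : G} (hx : x ∈ Z ⊔ C) (hs : s ∈ S) : ⁅x, s⁆ ∈ C := by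
  obtain ⟨d, hd, r, hr, rfl⟩ := h.mem_N hx
  have hrS : r ∈ S := h.hCS hr
  have hm : ⁅r, s⁆ ∈ S := by
    rw [commutatorElement_def]
    exact mul_mem (mul_mem (mul_mem hrS hs) (inv_mem hrS)) (inv_mem hs)
  have e : ⁅d * r, s⁆ = ⁅r, s⁆ := by
    have e1 : ⁅d * r, s⁆ = d * ⁅r, s⁆ * d⁻¹ * ⁅d, s⁆ := by
      simp only [commutatorElement_def]; group
    have e2 : ⁅d, s⁆ = 1 := commutatorElement_eq_one_iff_mul_comm.2 (h.central hd hs).symm
    rw [e1, e2, mul_one, ← h.central hd hm]
    group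
  rw [e, commutatorElement_def]
  have h1 : s * r⁻¹ * s⁻¹ ∈ C := (mem_normalizer_iff.1 (h.hn hs) _).1 (inv_mem hr)
  have e2 : r * s * r⁻¹ * s⁻¹ = r * (s * r⁻¹ * s⁻¹) := by group
  rw [e2]
  exact mul_mem hr h1

theorem pow_N {x : G} (hx : x ∈ Z ⊔ C) : x ^ p ∈ C := by
  obtain ⟨d, hd, r, hr, rfl⟩ := h.mem_N hx
  have c : Commute d r := (h.central hd (h.hCS hr)).symm
  rw [c.mul_pow, h.hp d hd, one_mul]
  exact pow_mem hr p

theorem frat_mem (x : ↥(frattini ↥S)) : ((x : ↥S) : G) ∈ Z ⊔ C := h.hF ⟨(x : ↥S), x.2, rfl⟩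

theorem comm_le : (⁅frattini ↥S, (⊤ : Subgroup ↥S)⁆).map S.subtype ≤ C := by
  rw [map_le_iff_le_comap, commutator_le]
  intro a ha b _
  rw [mem_comap, map_commutatorElement]
  exact h.comm_N (h.frat_mem ⟨a, ha⟩) b.2

theorem frat_frat_le :
    ((frattini ↥(frattini ↥S)).map (frattini ↥S).subtype).map S.subtype ≤ C := by
  rw [map_map]
  apply map_frattini_le (p := p)
  · intro a
    exact h.hn (a : ↥S).2
  · intro a b
    exact h.comm_N (h.frat_mem a) (b : ↥S).2
  · intro a
    exact h.pow_N (h.frat_mem a)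

end Dec2

section Two

variable {S T M : Subgroup G} (c : Core 2 2 S T M) (n : Core.Nat' 2 2 S T M)
include c n

theorem sq_T (hZ : ∀ z ∈ cen S, z ^ 2 = 1) : ∀ v ∈ cen T, v ^ 2 = 1 := by
  obtain ⟨g, hg⟩ : ∃ g : G, g ∉ M := by
    by_contra hcon
    push Not at hcon
    exact c.neM (eq_top_iff.2 fun x _ => hcon x)
  intro v hv
  rw [← n.sup g hg] at hv
  have hj : cj g (cen S) ≤ cen T := by
    have := cj_mono (g := g) c.Zs_le
    have hn : (cen T).Normal := c.normX
    rwa [cj_normal g (cen T)] at this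
  have h1 : cen S ≤ normalizer (cj g (cen S) : Set G) := by
    intro x hx
    rw [← cj_eq_iff_mem_normalizer]
    apply conj_cj'
    intro y hy
    have := cen_comm (hj hy) (cen_le T (c.Zs_le hx))
    rw [this, mul_assoc, mul_inv_cancel, mul_one]
    exact hy
  obtain ⟨a, ha, b, hb, rfl⟩ := Cfsg.Agent.H259.GN.mul_of_sup h1 v hv
  have hab : Commute a b := cen_comm (hj hb) (cen_le T (c.Zs_le ha))
  rw [hab.mul_pow, hZ a ha, one_mul]
  rw [mem_cj] at hb
  have h2 := hZ _ hb
  have e : (g⁻¹ * b * g) ^ 2 = g⁻¹ * b ^ 2 * g := by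
    rw [pow_two, pow_two]; group
  rw [e] at h2
  have e2 : b ^ 2 = g * (g⁻¹ * b ^ 2 * g) * g⁻¹ := by group
  rw [e2, h2]
  group

/-- `Z(S) = Z(G) ∪ d Z(G)` -/
theorem cosets {d : G} (hd : d ∈ cen S) (hdc : d ∉ center G) {x : G} (hx : x ∈ cen S)
    (hxc : x ∉ center G) : d⁻¹ * x ∈ center G := by
  by_contra hcon
  have hm := card_map_mk c.center_le
  rw [n.cardZ] at hm
  have p2 : 0 < Nat.card (center G) := Nat.card_pos
  have hm' : Nat.card ((cen S).map (QuotientGroup.mk' (center G))) = 2 := by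
    have : Nat.card (center G) * Nat.card ((cen S).map (QuotientGroup.mk' (center G))) =
      Nat.card (center G) * 2 := by rw [hm]; ring
    exact Nat.eq_of_mul_eq_mul_left p2 this
  have hsub : ({1, ((d : G) : G ⧸ center G), ((x : G) : G ⧸ center G)} : Set (G ⧸ center G)) ⊆
      (((cen S).map (QuotientGroup.mk' (center G)) : Subgroup (G ⧸ center G)) :
        Set (G ⧸ center G)) := by
    rintro _ (rfl | rfl | rfl)
    · exact one_mem _
    · exact ⟨d, hd, rfl⟩
    · exact ⟨x, hx, rfl⟩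
  have h3 := Set.ncard_le_ncard hsub (Set.toFinite _)
  rw [← Nat.card_coe_set_eq (((cen S).map (QuotientGroup.mk' (center G)) :
    Subgroup (G ⧸ center G)) : Set (G ⧸ center G))] at h3
  have h4 : ({1, ((d : G) : G ⧸ center G), ((x : G) : G ⧸ center G)} :
      Set (G ⧸ center G)).ncard = 3 := by
    rw [Set.ncard_eq_three]
    refine ⟨_, _, _, ?_, ?_, ?_, rfl⟩
    · intro h
      exact hdc ((QuotientGroup.eq_one_iff d).1 h.symm)
    · intro h
      exact hxc ((QuotientGroup.eq_one_iff x).1 h.symm)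
    · intro h
      exact hcon (QuotientGroup.eq.1 h)
  rw [h4] at h3
  have h5 : Nat.card ((((cen S).map (QuotientGroup.mk' (center G)) :
    Subgroup (G ⧸ center G)) : Set (G ⧸ center G))) = 2 := hm'
  omega

/-- `Z(T) = Z(S) ∪ v Z(S)` -/
theorem cosets' {v : G} (hv : v ∈ cen T) (hvS : v ∉ cen S) {x : G} (hx : x ∈ cen T)
    (hxS : x ∉ cen S) : v⁻¹ * x ∈ cen S := by
  have h1 : ((cen S).subgroupOf (cen T)).index = 2 := by
    have h2 := card_mul_relIndex c.Zs_le
    rw [n.cardX] at h2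
    have h3 : 0 < Nat.card (cen S) := Nat.card_pos
    have h4 : Nat.card (cen S) * (cen S).relIndex (cen T) = Nat.card (cen S) * 2 := by
      rw [h2]; ring
    exact Nat.eq_of_mul_eq_mul_left h3 h4
  have h5 := Subgroup.mul_mem_iff_of_index_two h1 (a := ⟨v⁻¹, inv_mem hv⟩) (b := ⟨x, hx⟩)
  rw [mem_subgroupOf, mem_subgroupOf, mem_subgroupOf] at h5
  change (v⁻¹ * x ∈ cen S ↔ (v⁻¹ ∈ cen S ↔ x ∈ cen S)) at h5
  rw [h5, inv_mem_iff]
  exact iff_of_false hvS hxS

theorem cosetsT {s : G} (hs : s ∈ S) (hsT : s ∉ T) {x : G} (hx : x ∈ S) (hxT : x ∉ T) :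
    s⁻¹ * x ∈ T := by
  have h1 : (T.subgroupOf S).index = 2 := by
    have h2 := card_mul_relIndex c.le
    rw [c.card] at h2
    have h3 : 0 < Nat.card T := Nat.card_pos
    have h4 : Nat.card T * T.relIndex S = Nat.card T * 2 := by
      rw [h2]; ring
    exact Nat.eq_of_mul_eq_mul_left h3 h4
  have h5 := Subgroup.mul_mem_iff_of_index_two h1 (a := ⟨s⁻¹, inv_mem hs⟩) (b := ⟨x, hx⟩)
  rw [mem_subgroupOf, mem_subgroupOf, mem_subgroupOf] at h5
  change (s⁻¹ * x ∈ T ↔ (s⁻¹ ∈ T ↔ x ∈ T)) at h5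
  rw [h5, inv_mem_iff]
  exact iff_of_false hsT hxT

theorem exists_K (hZ : ∀ z ∈ cen S, z ^ 2 = 1) (hT : Ph T ⊓ cen T ≤ center G) {v d : G}
    (hv : v ∈ cen T) (hvS : v ∉ cen S) (hd : d ∈ cen S) (hdc : d ∉ center G) :
    ∃ K : Subgroup G, K ≤ T ∧ T ≤ normalizer (K : Set G) ∧ K.relIndex T = 2 ∧ Ph T ≤ K ∧ v ∈ K ∧
      center G ≤ K ∧ d ∉ K := by
  have hcT : center G ≤ T := c.center_le.trans (c.Zs_le.trans (cen_le T))
  have hvT : v ∈ T := cen_le T hv
  have hpT : IsPGroup 2 T := c.pgS.to_le c.le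
  set B : Subgroup G := (zpowers v ⊔ center G) ⊔ Ph T with hB
  have hdB : d ∉ B := by
    intro h
    have h1 : zpowers v ⊔ center G ≤ normalizer (Ph T : Set G) := by
      apply le_trans _ (norm_Ph T)
      have : T ≤ normalizer (T : Set G) := le_normalizer
      exact (sup_le (by rwa [zpowers_le]) hcT).trans this
    obtain ⟨a, ha, f, hf, e⟩ := Cfsg.Agent.H259.GN.mul_of_sup h1 d h
    have h2 : zpowers v ≤ normalizer (center G : Set G) := le_top.trans
      (normalizer_eq_top (H := center G)).ge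
    obtain ⟨b, hb, w, hw, e2⟩ := Cfsg.Agent.H259.GN.mul_of_sup h2 a ha
    have hbT : b ∈ cen T := (zpowers_le.2 hv) hb
    have hwT : w ∈ cen T := c.Zs_le (c.center_le hw)
    have hdT : d ∈ cen T := c.Zs_le hd
    have hfT : f ∈ cen T := by
      have e3 : f = a⁻¹ * d := by rw [← e]; group
      rw [e3, ← e2]
      exact mul_mem (inv_mem (mul_mem hbT hwT)) hdT
    have hfc : f ∈ center G := hT ⟨hf, hfT⟩
    have hb2 : b = 1 ∨ b = v := by
      obtain ⟨k, rfl⟩ := hb
      have hv2 := sq_T c n hZ v hv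
      rcases Int.even_or_odd' k with ⟨m, hm | hm⟩
      · left
        change v ^ k = 1
        rw [hm, zpow_mul]
        have : v ^ (2 : ℤ) = 1 := by exact_mod_cast hv2
        rw [this, one_zpow]
      · right
        change v ^ k = v
        rw [hm, zpow_add, zpow_mul]
        have : v ^ (2 : ℤ) = 1 := by exact_mod_cast hv2
        rw [this, one_zpow, one_mul, zpow_one]
    have hwf : w * f ∈ center G := mul_mem hw hfc
    rcases hb2 with rfl | rfl
    · apply hdc
      rw [← e, ← e2, one_mul]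
      exact hwf
    · apply hvS
      have e4 : b = d * (w * f)⁻¹ := by rw [← e, ← e2]; group
      rw [e4]
      exact mul_mem hd (inv_mem (c.center_le hwf))
  have hBT : B ≤ T := sup_le (sup_le (by rwa [zpowers_le]) hcT) (Ph_le T)
  obtain ⟨K, hK, hNK, hdK⟩ := Lib.FrattiniBasic.exists_isCoatom_of_notMem (p := 2)
    (B.subgroupOf T) (by
      rw [_root_.commutator_def, commutator_le]
      intro a _ b _
      rw [mem_subgroupOf]
      exact mem_sup_right (comm_mem_Ph (p := 2) hpT a.2 b.2)) (by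
      intro x
      rw [mem_subgroupOf]
      exact mem_sup_right (pow_mem_Ph hpT x.2))
    (x := (⟨d, cen_le T (c.Zs_le hd)⟩ : T)) (by
      rw [mem_subgroupOf]
      exact hdB)
  have hKn : K.Normal := Lib.FrattiniPGroup.normal_of_coatom hpT hK
  have hKi : K.index = 2 := Lib.FrattiniPGroup.index_of_coatom hpT hK
  have hmem : ∀ x (hx : x ∈ T), x ∈ K.map T.subtype ↔ (⟨x, hx⟩ : T) ∈ K := by
    intro x hx
    constructor
    · rintro ⟨y, hy, e⟩
      have : y = ⟨x, hx⟩ := Subtype.ext e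
      rwa [this] at hy
    · intro h
      exact ⟨_, h, rfl⟩
  have hle : B ≤ K.map T.subtype := by
    intro x hx
    rw [hmem x (hBT hx)]
    apply hNK
    rw [mem_subgroupOf]
    exact hx
  refine ⟨K.map T.subtype, map_subtype_le K, ?_, ?_, le_sup_right.trans hle,
    hle (mem_sup_left (mem_sup_left (mem_zpowers v))),
    ((le_sup_right.trans le_sup_left).trans hle), ?_⟩
  · intro t ht
    rw [← cj_eq_iff_mem_normalizer]
    apply conj_cj'
    rintro _ ⟨y, hy, rfl⟩
    exact ⟨⟨t, ht⟩ * y * ⟨t, ht⟩⁻¹, hKn.conj_mem y hy ⟨t, ht⟩, rfl⟩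
  · unfold relIndex
    have : (K.map T.subtype).subgroupOf T = K := by
      unfold subgroupOf
      exact comap_map_eq_self_of_injective T.subtype_injective K
    rw [this]
    exact hKi
  · rw [hmem d (cen_le T (c.Zs_le hd))]
    exact hdK

theorem exists_C (hZ : ∀ z ∈ cen S, z ^ 2 = 1) (hT : Ph T ⊓ cen T ≤ center G) :
    ∃ C : Subgroup G, Dec2 2 S C (cen S) ∧ cen T ⊓ C ≤ center G := by
  have hTn : T.Normal := c.normT
  have hXn : (cen T).Normal := c.normX
  have hpT : IsPGroup 2 T := c.pgS.to_le c.le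
  obtain ⟨v, hv, hvS⟩ : ∃ v ∈ cen T, v ∉ cen S := by
    by_contra hcon
    push Not at hcon
    have h1 := n.cardX
    have h2 : Nat.card (cen T) ≤ Nat.card (cen S) := Nat.card_mono (Set.toFinite _) hcon
    have h3 : 0 < Nat.card (cen S) := Nat.card_pos
    omega
  obtain ⟨d, hd, hdc⟩ : ∃ d ∈ cen S, d ∉ center G := by
    by_contra hcon
    push Not at hcon
    have h1 := n.cardZ
    have h2 : Nat.card (cen S) ≤ Nat.card (center G) := Nat.card_mono (Set.toFinite _) hcon
    have h3 : 0 < Nat.card (center G) := Nat.card_pos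
    omega
  obtain ⟨s, hs, hsT⟩ : ∃ s ∈ S, s ∉ T := by
    by_contra hcon
    push Not at hcon
    have h1 := c.card
    have h2 : Nat.card S ≤ Nat.card T := Nat.card_mono (Set.toFinite _) hcon
    have h3 : 0 < Nat.card T := Nat.card_pos
    omega
  obtain ⟨K, hKT, hKn, hKi, hPK, hvK, hcK, hdK⟩ := exists_K c n hZ hT hv hvS hd hdc
  have hsT' : s⁻¹ ∉ T := fun h => hsT (by simpa using inv_mem h)
  have hKt : ∀ t ∈ T, cj t K = K := fun t ht => cj_eq_iff_mem_normalizer.2 (hKn ht)
  have hjK : cj s K ≤ T := by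
    have := cj_mono (g := s) hKT
    rwa [cj_normal s T] at this
  set C : Subgroup G := K ⊓ cj s K with hC
  have hCT : C ≤ T := inf_le_left.trans hKT
  have hCt : ∀ t ∈ T, cj t C = C := by
    intro t ht
    have h1 : cj t (cj s K) = cj s K := by
      rw [cj_mul]
      have e : t * s = s * (s⁻¹ * t * s) := by group
      have h2 : s⁻¹ * t * s ∈ T := by
        have := hTn.conj_mem t ht s⁻¹
        simpa using this
      rw [e, ← cj_mul, hKt _ h2]
    rw [hC, cj_inf, hKt t ht, h1]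
  have hCs : cj s C = C := by
    have hss : s * s ∈ T := by
      have := c.expo s hs
      rwa [pow_two] at this
    rw [hC, cj_inf, cj_mul, hKt _ hss, inf_comm]
  have hCn : S ≤ normalizer (C : Set G) := by
    intro x hx
    rw [← cj_eq_iff_mem_normalizer]
    by_cases hxT : x ∈ T
    · exact hCt x hxT
    · have h1 := cosetsT c n hs hsT hx hxT
      have e : x = s * (s⁻¹ * x) := by group
      rw [e, ← cj_mul, hCt _ h1, hCs]
  -- intersection with `Z(T)`
  have hCV : cen T ⊓ C ≤ center G := by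
    rintro x ⟨hxV, hxC⟩
    have hxK : x ∈ K := hxC.1
    have hxK' : s⁻¹ * x * s ∈ K := mem_cj.1 hxC.2
    have hZK : ∀ y ∈ cen S, y ∈ K → y ∈ center G := by
      intro y hy hyK
      by_contra hyc
      apply hdK
      have h1 := cosets c n hd hdc hy hyc
      have e : d = y * (d⁻¹ * y)⁻¹ := by group
      rw [e]
      exact mul_mem hyK (inv_mem (hcK h1))
    by_cases hxS : x ∈ cen S
    · exact hZK x hxS hxK
    · exfalso
      have h1 := cosets' c n hv hvS hxV hxS
      set y := v⁻¹ * x with hy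
      have hyK : y ∈ K := mul_mem (inv_mem hvK) hxK
      have hyc : y ∈ center G := hZK y h1 hyK
      have hx : x = v * y := by rw [hy]; group
      have e1 : s⁻¹ * x * s = s⁻¹ * v * s * y := by
        rw [hx]
        have := mem_center_iff.1 hyc s
        calc s⁻¹ * (v * y) * s = s⁻¹ * v * (y * s) := by group
          _ = s⁻¹ * v * (s * y) := by rw [this]
          _ = _ := by group
      rw [e1] at hxK'
      have h2 : s⁻¹ * v * s ∈ K := by
        have := mul_mem hxK' (inv_mem hyK)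
        have e2 : s⁻¹ * v * s * y * y⁻¹ = s⁻¹ * v * s := by group
        rwa [e2] at this
      have h3 : cm v s⁻¹ ∈ K := by
        have e3 : cm v s⁻¹ = s⁻¹ * v * s * v⁻¹ := by unfold cm; group
        rw [e3]
        exact mul_mem h2 (inv_mem hvK)
      have h4 : cm v s⁻¹ ∈ cen S := n.quad v hv _ (inv_mem hs)
      have h5 := hZK _ h4 h3
      exact hvS (n.cmc _ (inv_mem hs) hsT' v hv h5)
  have hPC : Ph T ≤ C := by
    apply le_inf hPK
    have h1 : cj s (Ph T) = Ph T := by
      apply cj_eq_iff_mem_normalizer.2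
      apply norm_Ph T
      rw [normalizer_eq_top]
      exact mem_top _
    rw [← h1]
    exact cj_mono hPK
  -- `T = Z(T) C`
  have hTC : cen T ⊔ C = T := by
    apply eq_of_le_of_card_le (sup_le (cen_le T) hCT)
    have h1 : cen T ≤ normalizer (C : Set G) := ((cen_le T).trans c.le).trans hCn
    have h2 := card_mul_eq h1
    have h3 : Nat.card (cen T ⊓ C : Subgroup G) ≤ Nat.card (center G) :=
      Nat.card_mono (Set.toFinite _) hCV
    have h4 := n.cardX
    have h5 := n.cardZ
    have h6 := card_mul_relIndex hCT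
    have h7 : C.relIndex T ≤ 2 * 2 := by
      have hj2 : (cj s K).relIndex T = 2 := by
        have h8 := card_mul_relIndex hjK
        have h9 := card_mul_relIndex hKT
        rw [card_cj] at h8
        rw [hKi] at h9
        have h10 : 0 < Nat.card K := Nat.card_pos
        rw [← h9] at h8
        exact Nat.eq_of_mul_eq_mul_left h10 h8
      calc C.relIndex T ≤ K.relIndex T * (cj s K).relIndex T := relIndex_inf_le
        _ = 2 * 2 := by rw [hKi, hj2]
    have p1 : 0 < Nat.card (center G) := Nat.card_pos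
    have p2 : 0 < Nat.card C := Nat.card_pos
    have p3 : 0 < Nat.card (cen T ⊓ C : Subgroup G) := Nat.card_pos
    have h8 : Nat.card T ≤ Nat.card C * 4 := by
      rw [← h6]
      exact Nat.mul_le_mul_left _ h7
    have h9 : Nat.card (cen T ⊔ C : Subgroup G) * Nat.card (cen T ⊓ C : Subgroup G) =
        Nat.card (cen T) * Nat.card C := h2
    rw [h4, h5] at h9
    have h10 : Nat.card C * 4 * Nat.card (center G) ≤
        Nat.card (cen T ⊔ C : Subgroup G) * Nat.card (center G) := by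
      calc Nat.card C * 4 * Nat.card (center G)
          = 2 * (2 * Nat.card (center G)) * Nat.card C := by ring
        _ = Nat.card (cen T ⊔ C : Subgroup G) * Nat.card (cen T ⊓ C : Subgroup G) := h9.symm
        _ ≤ _ := Nat.mul_le_mul_left _ h3
    exact h8.trans (Nat.le_of_mul_le_mul_right h10 p1)
  -- squares
  have hsq : ∀ t ∈ S, t ^ 2 ∈ cen S ⊔ C := by
    intro t ht
    by_cases htT : t ∈ T
    · exact mem_sup_right (hPC (pow_mem_Ph hpT htT))
    · have h1 : t ^ 2 ∈ cen T ⊔ C := by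
        rw [hTC]
        exact c.expo t ht
      have h2 : cen T ≤ normalizer (C : Set G) := ((cen_le T).trans c.le).trans hCn
      obtain ⟨u, hu, r, hr, e⟩ := Cfsg.Agent.H259.GN.mul_of_sup h2 _ h1
      have h3 : u⁻¹ * (t * u * t⁻¹) = r * (t * r * t⁻¹)⁻¹ := by
        have h4 : t * (u * r) * t⁻¹ = u * r := by
          rw [e, pow_two]; group
        have h5 : (t * u * t⁻¹) * (t * r * t⁻¹) = u * r := by
          rw [← h4]; group
        calc u⁻¹ * (t * u * t⁻¹) = u⁻¹ * ((t * u * t⁻¹) * (t * r * t⁻¹)) * (t * r * t⁻¹)⁻¹ := by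
              group
          _ = _ := by rw [h5]; group
      have h6 : u⁻¹ * (t * u * t⁻¹) ∈ center G := by
        apply hCV
        refine ⟨?_, ?_⟩
        · exact (cen T).mul_mem ((cen T).inv_mem hu) (c.conj_mem_X hu)
        · rw [h3]
          exact C.mul_mem hr (C.inv_mem ((mem_normalizer_iff.1 (hCn ht) r).1 hr))
      have h7 : cm u t ∈ center G := by
        have e7 : cm u t = u * (u⁻¹ * (t * u * t⁻¹)) * u⁻¹ := by unfold cm; group
        rw [e7, mem_center_iff.1 h6 u, mul_assoc, mul_inv_cancel, mul_one]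
        exact h6
      have h8 := n.cmc t ht htT u hu h7
      rw [← e]
      exact mul_mem (mem_sup_left h8) (mem_sup_right hr)
  have hNn : S ≤ normalizer ((cen S ⊔ C : Subgroup G) : Set G) := by
    intro x hx
    apply Cfsg.Agent.H259.GN.mem_normalizer_sup' _ (hCn hx)
    rw [← cj_eq_iff_mem_normalizer, cj_cen]
    congr 1
    exact cj_eq_iff_mem_normalizer.2 (le_normalizer hx)
  refine ⟨C, ⟨hCT.trans c.le, hCn, ?_, le_rfl, hZ⟩, hCV⟩
  apply Ph_le_of (p := 2) hNn _ hsq
  intro a ha b hb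
  have e : ⁅a, b⁆ = (a * b) ^ 2 * (b⁻¹ * (a ^ 2)⁻¹ * b) * (b ^ 2)⁻¹ := by
    rw [commutatorElement_def, pow_two, pow_two, pow_two]; group
  rw [e]
  apply mul_mem (mul_mem (hsq _ (mul_mem ha hb)) _) (inv_mem (hsq b hb))
  have h1 := (mem_normalizer_iff.1 (hNn (inv_mem hb)) _).1 (inv_mem (hsq a ha))
  simpa using h1

/-- the case `q = 2` -/
theorem D_two (hZ : ∀ z ∈ cen S, z ^ 2 = 1)
    (h0 : ¬ ((⁅frattini ↥S, (⊤ : Subgroup ↥S)⁆ ⊔
        (frattini ↥(frattini ↥S)).map (frattini ↥S).subtype).map S.subtype) ⊓ cen S ≤ center G) :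
    ¬ ((⁅frattini ↥S, (⊤ : Subgroup ↥S)⁆ ⊔
        (frattini ↥(frattini ↥S)).map (frattini ↥S).subtype).map S.subtype) ⊓ ⁅cen T, S⁆ ≤
          center G := by
  by_cases hT : Ph T ⊓ cen T ≤ center G
  · exfalso
    obtain ⟨C, hC, hCV⟩ := exists_C c n hZ hT
    apply h0
    rw [Subgroup.map_sup]
    rintro x ⟨hx, hxS⟩
    exact hCV ⟨c.Zs_le hxS, (sup_le hC.comm_le hC.frat_frat_le) hx⟩
  · have hTn : T.Normal := c.normT
    have hXn : (cen T).Normal := c.normX
    have hPn : (Ph T).Normal := by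
      rw [← normalizer_eq_top_iff, eq_top_iff, ← normalizer_eq_top (H := T)]
      exact norm_Ph T
    have hYn : (Ph T ⊓ cen T).Normal := inferInstance
    have hY := n.irr _ hYn inf_le_right hT
    have hPTS : Ph T ≤ Ph S := by
      apply Ph_le_of (p := 2)
      · exact c.le.trans (le_normalizer.trans (norm_Ph S))
      · intro a ha b hb
        exact comm_mem_Ph (p := 2) c.pgS (c.le ha) (c.le hb)
      · intro a ha
        exact pow_mem_Ph c.pgS (c.le ha)
    have h1 : ⁅cen T, S⁆ ≤ ⁅Ph S, S⁆ := by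
      rw [commutator_le]
      intro v hv s hs
      rw [← hY] at hv
      have h2 : Ph T ⊓ cen T ≤ normalizer (center G : Set G) := le_top.trans
        (normalizer_eq_top (H := center G)).ge
      obtain ⟨y, hy, z, hz, rfl⟩ := Cfsg.Agent.H259.GN.mul_of_sup h2 _ hv
      have e : ⁅y * z, s⁆ = ⁅y, s⁆ := by
        have e1 : ⁅y * z, s⁆ = y * ⁅z, s⁆ * y⁻¹ * ⁅y, s⁆ := by
          simp only [commutatorElement_def]; group
        have e2 : ⁅z, s⁆ = 1 :=
          commutatorElement_eq_one_iff_mul_comm.2 (mem_center_iff.1 hz s).symm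
        rw [e1, e2]
        group
      rw [e]
      exact commutator_mem_commutator (hPTS hy.1) hs
    have h2 : ⁅Ph S, S⁆ ≤ (⁅frattini ↥S, (⊤ : Subgroup ↥S)⁆ ⊔
        (frattini ↥(frattini ↥S)).map (frattini ↥S).subtype).map S.subtype := by
      rw [Subgroup.map_sup, map_commutator]
      apply le_trans _ le_sup_left
      apply commutator_mono le_rfl
      rw [← MonoidHom.range_eq_map, range_subtype]
    intro hcon
    have h3 : ⁅cen T, S⁆ ≤ center G := by
      intro x hx
      exact hcon ⟨h2 (h1 hx), hx⟩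
    obtain ⟨y, ⟨hyR, hyS⟩, hyc⟩ := SetLike.not_le_iff_exists.1 h0
    obtain ⟨d, hd, w, hw, e⟩ := exists_D c n hyS
    apply hyc
    rw [e]
    exact mul_mem (h3 hd) hw

end Two

/-- **Lemma (D)** -/
theorem D {S T M : Subgroup G} (c : Core p q S T M) (n : Core.Nat' p q S T M)
    (hZ : ∀ z ∈ cen S, z ^ p = 1) (S₀ : Subgroup ↥S)
    (hS₀ : S₀ = if p = 2 then ⁅frattini ↥S, (⊤ : Subgroup ↥S)⁆ ⊔
        (frattini ↥(frattini ↥S)).map (frattini ↥S).subtype
      else if p = 3 then ⁅⁅frattini ↥S, (⊤ : Subgroup ↥S)⁆, (⊤ : Subgroup ↥S)⁆ ⊔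
        (frattini ↥(frattini ↥S)).map (frattini ↥S).subtype
      else ⁅frattini ↥S, (⊤ : Subgroup ↥S)⁆ ⊔ Cfsg.powerClosure p 1 (⊤ : Subgroup ↥S))
    (h0 : ¬ (S₀.map S.subtype) ⊓ cen S ≤ center G) :
    ¬ (S₀.map S.subtype) ⊓ ⁅cen T, S⁆ ≤ center G := by
  have hq := q_gt c n
  rcases Nat.lt_or_ge 2 q with h | h
  · exact D_big c n h (norm_map_char S (S0_char p S S₀ hS₀)) h0
  · have hq2 : q = 2 := by omega
    have hp2 : p = 2 := by
      have h1 := c.card
      rw [hq2] at h1
      have h2 : 2 ∣ Nat.card S := ⟨_, h1⟩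
      obtain ⟨k, hk⟩ := c.pgS.exists_card_eq
      rw [hk] at h2
      have h3 := Nat.Prime.dvd_of_dvd_pow Nat.prime_two h2
      exact ((Nat.prime_dvd_prime_iff_eq Nat.prime_two (Fact.out : p.Prime)).1 h3).symm
    subst hp2
    subst hq2
    rw [if_pos rfl] at hS₀
    rw [hS₀] at h0 ⊢
    exact D_two c n hZ h0

end Cfsg.Agent.H37.GND
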