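import Cfsg.Agent.H259.GN2
import Cfsg.Agent.Lib.FrattiniPGroup
import Cfsg.Agent.Lib.NormalElementary
import Cfsg.Prelude.Def_PLocal

/-!
# Uniform Glauberman–Niles: the basic commuting lemma (E)

If two rank one pushing-up groups `G`, `G'` over the same Sylow group `S` have non-commuting `V = Z(Q)`,
`V' = Z(Q')`, then `S₀ ∩ Z(S) ≤ Z(G)`.
-/

set_option autoImplicit false
set_option linter.unusedSectionVars false

namespace Cfsg.Agent.H37.GNE

open Subgroup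
open Cfsg.Agent.H260.Push Cfsg.Agent.H259.GN
open scoped commutatorElement

variable {X : Type*} [Group X]

/-- The Frattini subgroup of a subgroup. -/
def Ph (A : Subgroup X) : Subgroup X := (frattini A).map A.subtype

theorem Ph_le (A : Subgroup X) : Ph A ≤ A := map_subtype_le _

theorem map_frattini_le {A : Type*} [Group A] [Finite A] {p : ℕ} [Fact p.Prime] (f : A →* X)
    {K : Subgroup X} (hn : ∀ a, f a ∈ normalizer (K : Set X)) (hc : ∀ a b, ⁅f a, f b⁆ ∈ K)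
    (hp : ∀ a, f a ^ p ∈ K) : (frattini A).map f ≤ K := by
  rw [map_le_iff_le_comap]
  have : (K.comap f).Normal := by
    constructor
    intro x hx a
    rw [mem_comap] at hx ⊢
    rw [map_mul, map_mul, map_inv]
    exact (mem_normalizer_iff.1 (hn a) _).1 hx
  apply Lib.FrattiniPGroup.frattini_le (p := p)
  · intro x y
    rw [mem_comap, map_commutatorElement]
    exact hc x y
  · intro x
    rw [mem_comap, map_pow]
    exact hp x

theorem Ph_le_of [Finite X] {p : ℕ} [Fact p.Prime] {A K : Subgroup X}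
    (hn : A ≤ normalizer (K : Set X))
    (hc : ∀ a ∈ A, ∀ b ∈ A, ⁅a, b⁆ ∈ K) (hp : ∀ a ∈ A, a ^ p ∈ K) : Ph A ≤ K :=
  map_frattini_le (p := p) A.subtype (fun a => hn a.2) (fun a b => hc _ a.2 _ b.2)
    (fun a => hp _ a.2)

theorem comm_mem_Ph [Finite X] {p : ℕ} [Fact p.Prime] {A : Subgroup X} (hA : IsPGroup p A)
    {a b : X} (ha : a ∈ A) (hb : b ∈ A) : ⁅a, b⁆ ∈ Ph A :=
  ⟨⁅⟨a, ha⟩, ⟨b, hb⟩⁆, Lib.FrattiniPGroup.commutator_mem_frattini hA _ _, rfl⟩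

theorem pow_mem_Ph [Finite X] {p : ℕ} [Fact p.Prime] {A : Subgroup X} (hA : IsPGroup p A)
    {a : X} (ha : a ∈ A) : a ^ p ∈ Ph A :=
  ⟨⟨a, ha⟩ ^ p, Lib.FrattiniPGroup.pow_mem_frattini hA _, rfl⟩

theorem norm_Ph (A : Subgroup X) : normalizer (A : Set X) ≤ normalizer (Ph A : Set X) := by
  have key : ∀ s ∈ normalizer (A : Set X), ∀ f ∈ Ph A, s * f * s⁻¹ ∈ Ph A := by
    intro s hs f hf
    obtain ⟨f, hf, rfl⟩ := hf
    have h1 : (frattini A).comap (normalizerMonoidHom A ⟨s, hs⟩).toMonoidHom = frattini A :=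
      frattini_characteristic.fixed _
    rw [← h1] at hf
    exact ⟨_, hf, rfl⟩
  intro s hs
  rw [mem_normalizer_iff]
  intro x
  refine ⟨key s hs x, fun hx => ?_⟩
  have h2 := key _ (inv_mem hs) _ hx
  have e : s⁻¹ * (s * x * s⁻¹) * s⁻¹⁻¹ = x := by group
  rwa [e] at h2

theorem Ph_cm {A : Subgroup X} {p : ℕ} [Finite X] [Fact p.Prime] {C : Subgroup X} (h : Cm C A) :
    C ≤ normalizer (Ph A : Set X) := by
  intro c hc
  rw [mem_normalizer_iff]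
  have key : ∀ c ∈ C, ∀ x ∈ Ph A, c * x * c⁻¹ = x := by
    intro c hc x hx
    rw [h c hc x (Ph_le A hx)]; group
  intro x
  constructor
  · intro hx
    rw [key c hc x hx]
    exact hx
  · intro hx
    have h2 := key _ (inv_mem hc) _ hx
    have e : c⁻¹ * (c * x * c⁻¹) * c⁻¹⁻¹ = x := by group
    rw [e] at h2
    rw [h2]
    exact hx

/-- Data for the computation: `S = J P`, `[J, P] = 1`, `J' ≤ D`, `J^p ≤ D`, `D` central elementary. -/
structure Dec (p : ℕ) (S J P D : Subgroup X) : Prop where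
  hJS : J ≤ S
  hPS : P ≤ S
  hpS : IsPGroup p S
  split : ∀ s ∈ S, ∃ j ∈ J, ∃ x ∈ P, s = j * x
  cm : Cm J P
  hD : D ≤ cen S
  comm : ∀ j ∈ J, ∀ k ∈ J, ⁅j, k⁆ ∈ D
  pow : ∀ j ∈ J, j ^ p ∈ D
  powD : ∀ d ∈ D, d ^ p = 1

namespace Dec

variable [Finite X] {p : ℕ} [Fact p.Prime] {S J P D : Subgroup X} (h : Dec p S J P D)
include h

theorem hpP : IsPGroup p P := h.hpS.to_le h.hPS

theorem central {d s : X} (hd : d ∈ D) (hs : s ∈ S) : s * d = d * s := cen_comm (h.hD hd) hs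

theorem D_norm : S ≤ normalizer (D : Set X) := by
  intro s hs
  rw [mem_normalizer_iff]
  have key : ∀ s ∈ S, ∀ x ∈ D, s * x * s⁻¹ = x := by
    intro s hs x hx
    rw [h.central hx hs]; group
  intro x
  constructor
  · intro hx
    rw [key s hs x hx]
    exact hx
  · intro hx
    have h2 := key _ (inv_mem hs) _ hx
    have e : s⁻¹ * (s * x * s⁻¹) * s⁻¹⁻¹ = x := by group
    rw [e] at h2
    rw [h2]
    exact hx

theorem R_norm : S ≤ normalizer (Ph P : Set X) := by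
  intro s hs
  obtain ⟨j, hj, x, hx, rfl⟩ := h.split s hs
  exact mul_mem (Ph_cm (p := p) h.cm hj) (norm_Ph P (le_normalizer hx))

theorem N_norm : S ≤ normalizer ((D ⊔ Ph P : Subgroup X) : Set X) := fun _ hs =>
  mem_normalizer_sup' (h.D_norm hs) (h.R_norm hs)

omit h [Finite X] [Fact p.Prime] in
theorem comm_mul {j x k y : X} (h1 : x * k = k * x) (h2 : j * y = y * j) (h3 : j * x = x * j)
    (h4 : k * y = y * k) : ⁅j * x, k * y⁆ = ⁅j, k⁆ * ⁅x, y⁆ := by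
  have c1 : Commute x k := h1
  have c2 : Commute j y := h2
  have c3 : Commute j x := h3
  have c4 : Commute k y := h4
  rw [commutatorElement_def, commutatorElement_def, commutatorElement_def, mul_inv_rev, mul_inv_rev]
  have e1 : x * (k * y) = k * (x * y) := by rw [← mul_assoc, h1, mul_assoc]
  have e2 : x⁻¹ * j⁻¹ = j⁻¹ * x⁻¹ := by rw [← mul_inv_rev, h3, mul_inv_rev]
  have e3 : y⁻¹ * k⁻¹ = k⁻¹ * y⁻¹ := by rw [← mul_inv_rev, h4, mul_inv_rev]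
  calc j * x * (k * y) * (x⁻¹ * j⁻¹) * (y⁻¹ * k⁻¹)
      = j * (x * (k * y)) * (j⁻¹ * x⁻¹) * (k⁻¹ * y⁻¹) := by rw [e2, e3]; group
    _ = j * k * ((x * y) * j⁻¹) * (x⁻¹ * k⁻¹) * y⁻¹ := by rw [e1]; group
    _ = j * k * (j⁻¹ * (x * y)) * (k⁻¹ * x⁻¹) * y⁻¹ := by
        rw [((c3.symm.mul_left c2.symm).inv_right).eq, (c1.inv_inv).eq]
    _ = j * k * j⁻¹ * ((x * y) * k⁻¹) * x⁻¹ * y⁻¹ := by group
    _ = j * k * j⁻¹ * (k⁻¹ * (x * y)) * x⁻¹ * y⁻¹ := by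
        rw [((c1.mul_left c4.symm).inv_right).eq]
    _ = _ := by group

theorem comm_S {s t : X} (hs : s ∈ S) (ht : t ∈ S) : ∃ d ∈ D, ∃ r ∈ Ph P, ⁅s, t⁆ = d * r := by
  obtain ⟨j, hj, x, hx, rfl⟩ := h.split s hs
  obtain ⟨k, hk, y, hy, rfl⟩ := h.split t ht
  refine ⟨_, h.comm j hj k hk, _, comm_mem_Ph h.hpP hx hy, ?_⟩
  exact comm_mul (h.cm k hk x hx).symm (h.cm j hj y hy) (h.cm j hj x hx) (h.cm k hk y hy)

theorem pow_S {s : X} (hs : s ∈ S) : ∃ d ∈ D, ∃ r ∈ Ph P, s ^ p = d * r := by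
  obtain ⟨j, hj, x, hx, rfl⟩ := h.split s hs
  refine ⟨_, h.pow j hj, _, pow_mem_Ph h.hpP hx, ?_⟩
  have c : Commute j x := h.cm j hj x hx
  exact c.mul_pow p

theorem PhS_le : Ph S ≤ D ⊔ Ph P := by
  apply Ph_le_of (p := p) h.N_norm
  · intro a ha b hb
    obtain ⟨d, hd, r, hr, e⟩ := h.comm_S ha hb
    rw [e]
    exact mul_mem (mem_sup_left hd) (mem_sup_right hr)
  · intro a ha
    obtain ⟨d, hd, r, hr, e⟩ := h.pow_S ha
    rw [e]
    exact mul_mem (mem_sup_left hd) (mem_sup_right hr)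

theorem mem_N {x : X} (hx : x ∈ D ⊔ Ph P) : ∃ d ∈ D, ∃ r ∈ Ph P, x = d * r := by
  have h1 : Ph P ≤ normalizer (D : Set X) := ((Ph_le P).trans h.hPS).trans h.D_norm
  have h2 := coe_mul_of_right_le_normalizer_left D (Ph P) h1
  have h3 : x ∈ ((D ⊔ Ph P : Subgroup X) : Set X) := hx
  rw [h2] at h3
  obtain ⟨d, hd, r, hr, e⟩ := h3
  exact ⟨d, hd, r, hr, e.symm⟩

/-- commutators of `D Φ(P)` with `S` lie in `Φ(P)` -/
theorem comm_N {x s : X} (hx : x ∈ D ⊔ Ph P) (hs : s ∈ S) : ⁅x, s⁆ ∈ Ph P := by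
  obtain ⟨d, hd, r, hr, rfl⟩ := h.mem_N hx
  have hrS : r ∈ S := h.hPS (Ph_le P hr)
  have e : ⁅d * r, s⁆ = ⁅r, s⁆ := by
    rw [commutatorElement_def, commutatorElement_def, mul_inv_rev]
    have c1 := h.central hd hs
    have c2 : r * s * r⁻¹ * d⁻¹ * s⁻¹ = r * s * r⁻¹ * s⁻¹ * d⁻¹ := by
      have c3 : d⁻¹ * s⁻¹ = s⁻¹ * d⁻¹ := by
        rw [← mul_inv_rev, ← mul_inv_rev, c1]
      rw [mul_assoc _ d⁻¹, c3, ← mul_assoc]
    have hm : r * s * r⁻¹ * s⁻¹ ∈ S :=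
      mul_mem (mul_mem (mul_mem hrS hs) (inv_mem hrS)) (inv_mem hs)
    calc d * r * s * (r⁻¹ * d⁻¹) * s⁻¹ = d * (r * s * r⁻¹ * d⁻¹ * s⁻¹) := by group
      _ = d * (r * s * r⁻¹ * s⁻¹ * d⁻¹) := by rw [c2]
      _ = d * (r * s * r⁻¹ * s⁻¹) * d⁻¹ := by group
      _ = (r * s * r⁻¹ * s⁻¹) * d * d⁻¹ := by rw [← h.central hd hm]
      _ = _ := by group
  rw [e, commutatorElement_def]
  have h1 : s * r⁻¹ * s⁻¹ ∈ Ph P := (mem_normalizer_iff.1 (h.R_norm hs) _).1 (inv_mem hr)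
  have e2 : r * s * r⁻¹ * s⁻¹ = r * (s * r⁻¹ * s⁻¹) := by group
  rw [e2]
  exact mul_mem hr h1

theorem pow_N {x : X} (hx : x ∈ D ⊔ Ph P) : x ^ p ∈ Ph P := by
  obtain ⟨d, hd, r, hr, rfl⟩ := h.mem_N hx
  have c : Commute d r := (h.central hd (h.hPS (Ph_le P hr))).symm
  rw [c.mul_pow, h.powD d hd, one_mul]
  exact pow_mem hr p

theorem N_le : D ⊔ Ph P ≤ S := sup_le (h.hD.trans (cen_le S)) ((Ph_le P).trans h.hPS)

theorem frat_mem (x : ↥(frattini ↥S)) : ((x : ↥S) : X) ∈ D ⊔ Ph P :=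
  h.PhS_le ⟨(x : ↥S), x.2, rfl⟩

theorem comm_le : (⁅frattini ↥S, (⊤ : Subgroup ↥S)⁆).map S.subtype ≤ Ph P := by
  rw [map_le_iff_le_comap, commutator_le]
  intro a ha b _
  rw [mem_comap, map_commutatorElement]
  exact h.comm_N (h.frat_mem ⟨a, ha⟩) b.2

theorem comm_comm_le :
    (⁅⁅frattini ↥S, (⊤ : Subgroup ↥S)⁆, (⊤ : Subgroup ↥S)⁆).map S.subtype ≤ Ph P := by
  have : (frattini ↥S).Normal := inferInstance
  exact (map_mono (commutator_le_left _ _)).trans h.comm_le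

theorem frat_frat_le :
    ((frattini ↥(frattini ↥S)).map (frattini ↥S).subtype).map S.subtype ≤ Ph P := by
  rw [map_map]
  apply map_frattini_le (p := p)
  · intro a
    exact h.R_norm (a : ↥S).2
  · intro a b
    exact h.comm_N (h.frat_mem a) (b : ↥S).2
  · intro a
    exact h.pow_N (h.frat_mem a)

theorem pow_le (hJ1 : ∀ j ∈ J, j ^ p = 1) :
    (Cfsg.powerClosure p 1 (⊤ : Subgroup ↥S)).map S.subtype ≤ Ph P := by
  rw [map_le_iff_le_comap]
  unfold Cfsg.powerClosure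
  rw [closure_le]
  rintro y ⟨s, -, rfl⟩
  rw [SetLike.mem_coe, mem_comap, map_pow, pow_one]
  obtain ⟨j, hj, x, hx, e⟩ := h.split (s : X) s.2
  change (s : X) ^ p ∈ Ph P
  have c : Commute j x := h.cm j hj x hx
  rw [e, c.mul_pow, hJ1 j hj, one_mul]
  exact pow_mem_Ph h.hpP hx

/-- **`S₀ ≤ Φ(P)`** -/
theorem S0_le (hJ1 : 3 < p → ∀ j ∈ J, j ^ p = 1) (S₀ : Subgroup ↥S)
    (hS₀ : S₀ = if p = 2 then ⁅frattini ↥S, (⊤ : Subgroup ↥S)⁆ ⊔
        (frattini ↥(frattini ↥S)).map (frattini ↥S).subtype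
      else if p = 3 then ⁅⁅frattini ↥S, (⊤ : Subgroup ↥S)⁆, (⊤ : Subgroup ↥S)⁆ ⊔
        (frattini ↥(frattini ↥S)).map (frattini ↥S).subtype
      else ⁅frattini ↥S, (⊤ : Subgroup ↥S)⁆ ⊔ Cfsg.powerClosure p 1 (⊤ : Subgroup ↥S)) :
    S₀.map S.subtype ≤ Ph P := by
  rw [hS₀]
  split_ifs with h2 h3
  · rw [Subgroup.map_sup]
    exact sup_le h.comm_le h.frat_frat_le
  · rw [Subgroup.map_sup]
    exact sup_le h.comm_comm_le h.frat_frat_le
  · rw [Subgroup.map_sup]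
    have hp3 : 3 < p := by
      have := (Fact.out : p.Prime).two_le
      omega
    exact sup_le h.comm_le (h.pow_le (hJ1 hp3))

end Dec

/-! ### The lemma (E) -/

section E

variable [Finite X] {p q q' : ℕ} [Fact p.Prime] {S G M Q G' M' Q' : Subgroup X}

/-- the family with two members -/
def fam {α : Type*} (a b : α) : Bool → α := fun i => if i then a else b

theorem pu_fam (h : PU S G M Q q) (h' : PU S G' M' Q' q') :
    ∀ i, PU S (fam G G' i) (fam M M' i) (fam Q Q' i) (fam q q' i) := by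
  intro i
  cases i
  · exact h'
  · exact h

theorem far_zero {ι : Type*} (G Q : ι → Subgroup X) : Far G Q 0 := fun _ _ hL =>
  absurd hL (Nat.not_lt_zero _)

theorem crit_fam (hnc : ¬ Cm (cen Q) (cen Q')) : Crit (fam G G') (fam Q Q') 0 true [] false := by
  refine ⟨by intro x hx; simp at hx, rfl, ?_⟩
  rw [pr_nil, cj_one]
  exact hnc

/-- The consequences of non-commuting `V`, `V'`. -/
structure Two (S Q Q' : Subgroup X) : Prop where
  sup : cen Q' ⊔ Q = S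
  sup' : cen Q ⊔ Q' = S
  inf : cen Q' ⊓ Q = cen S
  inf' : cen Q ⊓ Q' = cen S
  dd : DD S Q' = DD S Q

theorem two (h : PU S G M Q q) (h' : PU S G' M' Q' q') (hnc : ¬ Cm (cen Q) (cen Q')) :
    Two S Q Q' := by
  have hf := pu_fam h h'
  have hF := far_zero (fam G G') (fam Q Q')
  have hc : Crit (fam G G') (fam Q Q') 0 true [] false := crit_fam hnc
  have hc' : Crit (fam G G') (fam Q Q') 0 false [] true := by
    have := hc.symm
    simpa [rv] using this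
  have a1 := crit_sup hf hF hc
  have a2 := crit_sup hf hF hc'
  have a3 := crit_inf hf hF hc
  have a4 := crit_inf hf hF hc'
  have a5 := crit_D' hf hF hc
  rw [pr_nil, cj_one] at a1 a2 a3 a4 a5
  rw [cj_one] at a3 a4
  exact ⟨a1, a2, a3, a4, a5⟩

theorem dec (h : PU S G M Q q) (h' : PU S G' M' Q' q') (hp : IsPGroup p S)
    (hV : ∀ v ∈ cen Q, v ^ p = 1) (hV' : ∀ v ∈ cen Q', v ^ p = 1)
    (hnc : ¬ Cm (cen Q) (cen Q')) :
    Dec p S (cen Q ⊔ cen Q') (Q ⊓ Q') (DD S Q) ∧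
      (p ≠ 2 → ∀ j ∈ cen Q ⊔ cen Q', j ^ p = 1) := by
  obtain ⟨a1, a2, a3, a4, a5⟩ := two h h' hnc
  have hcomm : ∀ j ∈ cen Q ⊔ cen Q', ∀ k ∈ S, ⁅j, k⁆ ∈ DD S Q := by
    let C : Subgroup X :=
      { carrier := {j | j ∈ S ∧ ∀ k ∈ S, ⁅j, k⁆ ∈ DD S Q}
        mul_mem' := by
          rintro a b ⟨ha, ha'⟩ ⟨hb, hb'⟩
          refine ⟨mul_mem ha hb, fun k hk => ?_⟩
          have e : ⁅a * b, k⁆ = a * ⁅b, k⁆ * a⁻¹ * ⁅a, k⁆ := by
            simp only [commutatorElement_def]; group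
          rw [e]
          have h1 : a * ⁅b, k⁆ = ⁅b, k⁆ * a := cen_comm (h.DZ (hb' k hk)) ha
          rw [h1]
          have e2 : ⁅b, k⁆ * a * a⁻¹ * ⁅a, k⁆ = ⁅b, k⁆ * ⁅a, k⁆ := by group
          rw [e2]
          exact mul_mem (hb' k hk) (ha' k hk)
        one_mem' := by
          refine ⟨one_mem _, fun k _ => ?_⟩
          rw [commutatorElement_one_left]
          exact one_mem _
        inv_mem' := by
          rintro a ⟨ha, ha'⟩
          refine ⟨inv_mem ha, fun k hk => ?_⟩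
          have e : ⁅a⁻¹, k⁆ = a⁻¹ * ⁅a, k⁆⁻¹ * a := by
            simp only [commutatorElement_def]; group
          rw [e]
          have h1 : a * ⁅a, k⁆⁻¹ = ⁅a, k⁆⁻¹ * a := cen_comm (h.DZ (inv_mem (ha' k hk))) ha
          have e2 : a⁻¹ * ⁅a, k⁆⁻¹ * a = ⁅a, k⁆⁻¹ := by
            rw [mul_assoc, ← h1]; group
          rw [e2]
          exact inv_mem (ha' k hk) }
    have hC : cen Q ⊔ cen Q' ≤ C := by
      apply sup_le
      · intro v hv
        exact ⟨h.VS hv, fun k hk => commutator_mem_commutator hv hk⟩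
      · intro v hv
        refine ⟨h'.VS hv, fun k hk => ?_⟩
        rw [← a5]
        exact commutator_mem_commutator hv hk
    intro j hj k hk
    exact (hC hj).2 k hk
  have hsplit : ∀ x ∈ Q, ∃ v ∈ cen Q, ∃ y ∈ Q ⊓ Q', x = v * y := by
    intro x hx
    have h1 : x ∈ cen Q ⊔ Q' := by rw [a2]; exact h.QS hx
    obtain ⟨v, hv, y, hy, e⟩ := mul_of_sup (h.VS.trans (h'.SG.trans h'.Qn)) x h1
    have e2 : y = v⁻¹ * x := by rw [← e]; group
    have hyQ : y ∈ Q := by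
      rw [e2]
      exact mul_mem (inv_mem (cen_le Q hv)) hx
    exact ⟨v, hv, y, ⟨hyQ, hy⟩, e.symm⟩
  have hJS : cen Q ⊔ cen Q' ≤ S := sup_le h.VS h'.VS
  have hpow0 : ∀ j ∈ cen Q ⊔ cen Q', ∃ d ∈ DD S Q, j ^ p = d ^ (p.choose 2) := by
    intro j hj
    obtain ⟨v, hv, v', hv', rfl⟩ :=
      mul_of_sup (h.VS.trans (h'.SG.trans h'.Vn)) j hj
    refine ⟨⁅v'⁻¹, v⁻¹⁆, ?_, ?_⟩
    · exact hcomm _ (inv_mem (mem_sup_right hv')) _ (inv_mem (h.VS hv))
    · have hd : ⁅v'⁻¹, v⁻¹⁆ ∈ cen S :=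
        h.DZ (hcomm _ (inv_mem (mem_sup_right hv')) _ (inv_mem (h.VS hv)))
      have e : v' * v = v * v' * ⁅v'⁻¹, v⁻¹⁆ := by
        simp only [commutatorElement_def]; group
      have c1 : Commute ⁅v'⁻¹, v⁻¹⁆ v := (cen_comm hd (h.VS hv)).symm
      have c2 : Commute ⁅v'⁻¹, v⁻¹⁆ v' := (cen_comm hd (h'.VS hv')).symm
      rw [Lib.NormalElementary.mul_pow_of_swap e c1 c2, hV v hv, hV' v' hv', one_mul, one_mul]
  have hD1 : ∀ d ∈ DD S Q, d ^ p = 1 := fun d hd => hV d (h.DV hd)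
  refine ⟨⟨hJS, inf_le_left.trans h.QS, hp, ?_, ?_, h.DZ, fun j hj k hk => hcomm j hj k (hJS hk),
    ?_, hD1⟩, ?_⟩
  · intro s hs
    rw [← a1] at hs
    obtain ⟨v', hv', x, hx, rfl⟩ := mul_of_sup (h'.VS.trans (h.SG.trans h.Qn)) s hs
    obtain ⟨v, hv, y, hy, rfl⟩ := hsplit x hx
    exact ⟨v' * v, mul_mem (mem_sup_right hv') (mem_sup_left hv), y, hy, by group⟩
  · apply Cm.sup_left
    · exact h.cm_VQ.mono le_rfl inf_le_left
    · exact h'.cm_VQ.mono le_rfl inf_le_right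
  · intro j hj
    obtain ⟨d, hd, e⟩ := hpow0 j hj
    rw [e]
    exact pow_mem hd _
  · intro hp2 j hj
    obtain ⟨d, hd, e⟩ := hpow0 j hj
    rw [e]
    have hpr : p.Prime := Fact.out
    have h2 : p ∣ p.choose 2 := by
      apply hpr.dvd_choose_self (by norm_num)
      have := hpr.two_le
      omega
    obtain ⟨m, hm⟩ := h2
    rw [hm, pow_mul, hD1 d hd, one_pow]

/-- **(E)**: `[V, V'] ≠ 1` implies `S₀ ∩ Z(S) ≤ Z(G)`. -/
theorem E (h : PU S G M Q q) (h' : PU S G' M' Q' q') (hp : IsPGroup p S)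
    (hV : ∀ v ∈ cen Q, v ^ p = 1) (hV' : ∀ v ∈ cen Q', v ^ p = 1)
    (hnc : ¬ Cm (cen Q) (cen Q')) (S₀ : Subgroup ↥S)
    (hS₀ : S₀ = if p = 2 then ⁅frattini ↥S, (⊤ : Subgroup ↥S)⁆ ⊔
        (frattini ↥(frattini ↥S)).map (frattini ↥S).subtype
      else if p = 3 then ⁅⁅frattini ↥S, (⊤ : Subgroup ↥S)⁆, (⊤ : Subgroup ↥S)⁆ ⊔
        (frattini ↥(frattini ↥S)).map (frattini ↥S).subtype
      else ⁅frattini ↥S, (⊤ : Subgroup ↥S)⁆ ⊔ Cfsg.powerClosure p 1 (⊤ : Subgroup ↥S)) :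
    (S₀.map S.subtype) ⊓ cen S ≤ cen G := by
  obtain ⟨hd, hJ⟩ := dec h h' hp hV hV' hnc
  obtain ⟨a1, a2, a3, a4, a5⟩ := two h h' hnc
  have h0 := hd.S0_le (fun h3 => hJ (by omega)) S₀ hS₀
  have hPQ : Ph (Q ⊓ Q') ≤ Ph Q := by
    apply Ph_le_of (p := p)
    · exact (inf_le_left : Q ⊓ Q' ≤ Q).trans (le_normalizer.trans (norm_Ph Q))
    · intro a ha b hb
      exact comm_mem_Ph (p := p) (hp.to_le h.QS) ha.1 hb.1
    · intro a ha
      exact pow_mem_Ph (hp.to_le h.QS) ha.1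
  have hQP : Ph Q ≤ Ph (Q ⊓ Q') := by
    have hsplit : ∀ x ∈ Q, ∃ v ∈ cen Q, ∃ y ∈ Q ⊓ Q', x = v * y := by
      intro x hx
      have h1 : x ∈ cen Q ⊔ Q' := by rw [a2]; exact h.QS hx
      obtain ⟨v, hv, y, hy, e⟩ := mul_of_sup (h.VS.trans (h'.SG.trans h'.Qn)) x h1
      have e2 : y = v⁻¹ * x := by rw [← e]; group
      have hyQ : y ∈ Q := by
        rw [e2]
        exact mul_mem (inv_mem (cen_le Q hv)) hx
      exact ⟨v, hv, y, ⟨hyQ, hy⟩, e.symm⟩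
    apply Ph_le_of (p := p)
    · exact h.QS.trans hd.R_norm
    · intro a ha b hb
      obtain ⟨v, hv, x, hx, rfl⟩ := hsplit a ha
      obtain ⟨w, hw, y, hy, rfl⟩ := hsplit b hb
      have e : ⁅v * x, w * y⁆ = ⁅v, w⁆ * ⁅x, y⁆ :=
        Dec.comm_mul (h.cm_VQ w hw x hx.1).symm (h.cm_VQ v hv y hy.1) (h.cm_VQ v hv x hx.1)
          (h.cm_VQ w hw y hy.1)
      have e1 : ⁅v, w⁆ = 1 := commutatorElement_eq_one_iff_mul_comm.2 (h.cm_VQ v hv w (cen_le Q hw))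
      rw [e, e1, one_mul]
      exact comm_mem_Ph hd.hpP hx hy
    · intro a ha
      obtain ⟨v, hv, x, hx, rfl⟩ := hsplit a ha
      have c : Commute v x := h.cm_VQ v hv x hx.1
      rw [c.mul_pow, hV v hv, one_mul]
      exact pow_mem_Ph hd.hpP hx
  have hN : Ph Q ⊓ cen Q ≤ cen G := by
    apply h.le_cenG
    · rw [← a4]
      exact le_inf inf_le_right ((inf_le_left.trans hQP).trans ((Ph_le _).trans inf_le_right))
    · intro g hg
      rw [← cj_eq_iff_mem_normalizer, cj_inf, h.cjV hg,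
        cj_eq_of_mem_normalizer (norm_Ph Q (h.Qn hg))]
  intro x hx
  exact hN ⟨hPQ (h0 hx.1), h.ZV hx.2⟩

end E

end Cfsg.Agent.H37.GNE
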