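import Cfsg.Agent.H37.GND
import Cfsg.Agent.H259.GN5

/-!
# Uniform Glauberman–Niles: the statements `StD`, `StE`
-/

set_option autoImplicit false

namespace Cfsg.Agent.H37.GNSt

open Subgroup
open Cfsg.Agent.H260.Push Cfsg.Agent.H259.GN

universe u

theorem S0_eq {X : Type*} [Group X] [Finite X] {p : ℕ} [Fact p.Prime] {S : Subgroup X}
    (hS : IsPGroup p S) : S0 p S = (S0 p (⊤ : Subgroup S)).map S.subtype := by
  rw [S0_map, ← MonoidHom.range_eq_map, range_subtype]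

theorem stD (p : ℕ) [Fact p.Prime] : StD.{u} p := by
  intro G _ _ q S T M c n _ hZ _ h0
  rw [S0_eq c.pgS, S0_top c.pgS] at h0 ⊢
  exact GND.D c n hZ _ rfl h0

theorem stE (p : ℕ) [Fact p.Prime] : StE.{u} p := by
  intro X _ _ q q' S G M Q G' M' Q' h h' hp _ hV hV' hnc
  rw [S0_eq hp, S0_top hp]
  exact GNE.E h h' hp hV hV' hnc _ rfl

end Cfsg.Agent.H37.GNSt
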