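import Mathlib
import Cfsg.Prelude.Def_LocalEven
import Cfsg.Prelude.Def_ConjugacyFunctors
import Cfsg.Agent.Lib.Cores
import Cfsg.Agent.Lib.Involves
import Cfsg.Agent.PLocal.StableOfNotInvolves
import Cfsg.Agent.PLocal.QdFree
import Cfsg.Agent.PLocal.QuadraticDickson
import Cfsg.Agent.Walter.QdAbelian

/-!
# p-stability in the normalizer form

`isNormalizerPStable_of_stableOn`: from `IsPStableOn` in the normalizers of `p`-subgroups;
`isNormalizerPStable_of_not_involves`: a finite group without section `SL(2, p)`, `p` odd;
`commutator_le_of_minimal`: quadratic action on a minimal normal `p`-subgroup is trivial in a stable group.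
-/

set_option autoImplicit false

universe u

namespace Cfsg.Agent.H37.Stable

open Cfsg Subgroup
open scoped commutatorElement

/-- membership in the `p`-core of a quotient only depends on the normal subgroup up to equality -/
theorem mk_mem_pCore_congr {G : Type*} [Group G] {p : ℕ} {M N : Subgroup G} [M.Normal] [N.Normal] (h : M = N)
    (g : G) : (QuotientGroup.mk g : G ⧸ M) ∈ pCore p (G ⧸ M) ↔ (QuotientGroup.mk g : G ⧸ N) ∈ pCore p (G ⧸ N) := by
  subst h
  exact Iff.rfl

theorem centralizer_subgroupOf_normalizer {G : Type*} [Group G] (P : Subgroup G) :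
    centralizer ((P.subgroupOf (normalizer (P : Set G)) : Subgroup (normalizer (P : Set G))) :
      Set (normalizer (P : Set G))) = (centralizer (P : Set G)).subgroupOf (normalizer (P : Set G)) := by
  ext x
  rw [mem_centralizer_iff, mem_subgroupOf, mem_centralizer_iff]
  constructor
  · intro h y hy
    exact congrArg Subtype.val (h ⟨y, le_normalizer hy⟩ hy)
  · intro h y hy
    exact Subtype.ext (h y hy)

theorem commutator_subgroupOf_zpowers {G : Type*} [Group G] (P N : Subgroup G) (hPN : P ≤ N) (g : G) (hg : g ∈ N)
    (h : ⁅⁅P, zpowers g⁆, zpowers g⁆ = ⊥) :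
    ⁅⁅P.subgroupOf N, zpowers (⟨g, hg⟩ : N)⁆, zpowers (⟨g, hg⟩ : N)⁆ = ⊥ := by
  have h1 : (zpowers (⟨g, hg⟩ : N)).map N.subtype = zpowers g := by
    rw [MonoidHom.map_zpowers]; rfl
  apply Subgroup.map_injective N.subtype_injective
  rw [map_commutator, map_commutator, h1, subgroupOf_map_subtype, inf_eq_left.mpr hPN, h, Subgroup.map_bot]

/-- `p`-stability in the normalizer form from the action form in the normalizers of the `p`-subgroups. -/
theorem isNormalizerPStable_of_stableOn {G : Type*} [Group G] {p : ℕ}
    (h : ∀ P : Subgroup G, IsPGroup p P → IsPStableOn p (P.subgroupOf (normalizer (P : Set G)))) :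
    IsNormalizerPStable p G := by
  intro P hP g hg hq
  have h1 := h P hP ⟨g, hg⟩ (commutator_subgroupOf_zpowers P _ le_normalizer g hg hq)
  exact (mk_mem_pCore_congr (centralizer_subgroupOf_normalizer P) _).mp h1

/-- **A finite group without section `SL(2, p)`, `p` odd, is `p`-stable in the normalizer form.** -/
theorem isNormalizerPStable_of_not_involves {G : Type u} [Group G] [Finite G] {p : ℕ} [Fact p.Prime]
    (hp : p ≠ 2) (hG : ¬ Lib.Involves.Involves G (Matrix.SpecialLinearGroup (Fin 2) (ZMod p))) :
    IsNormalizerPStable p G := by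
  refine isNormalizerPStable_of_stableOn fun P hP => ?_
  refine PLocal.StableOfNotInvolves.isPStableOn_of_not_involves hp ?_ _ (hP.comap_subtype)
  rintro ⟨K, f, hf⟩
  apply hG
  exact Lib.Involves.trans (Lib.Involves.of_injective (normalizer (P : Set G)).subtype
    (normalizer (P : Set G)).subtype_injective) ⟨K, f, hf⟩

/-- A finite `Qd(p)`-free group, `p` odd, acts `p`-stably on its normal `p`-subgroups. -/
theorem isPStableOn_of_qdFree {G : Type u} [Group G] [Finite G] {p : ℕ} [Fact p.Prime]
    (hp : p ≠ 2) (hG : ¬ Lib.Involves.Involves G ↥(Cfsg.qd p)) (P : Subgroup G) [P.Normal]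
    (hP : IsPGroup p P) : IsPStableOn p P := by
  by_contra hns
  refine hG (Cfsg.Agent.PLocal.QdFree.involves_qd_of_not_stable hp ?_ P hP hns)
  intro K P' _ _ _ hP' α a b hab ha hb hnp
  exact Cfsg.Agent.PLocal.QuadraticDickson.exists_natural_section hp hP' α a b hab ha hb hnp

/-- **A finite `Qd(p)`-free group, `p` odd, is `p`-stable in the normalizer form.** -/
theorem isNormalizerPStable_of_qdFree {G : Type u} [Group G] [Finite G] {p : ℕ} [Fact p.Prime]
    (hp : p ≠ 2) (hG : ¬ Lib.Involves.Involves G ↥(Cfsg.qd p)) : IsNormalizerPStable p G := by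
  refine isNormalizerPStable_of_stableOn fun P hP => ?_
  refine isPStableOn_of_qdFree hp ?_ _ (hP.comap_subtype)
  intro h
  exact hG (Lib.Involves.trans (Lib.Involves.of_injective (normalizer (P : Set G)).subtype
    (normalizer (P : Set G)).subtype_injective) h)

/-- a quotient `K / R` (`R` given in the ambient group) is a section -/
theorem involves_section {G : Type*} [Group G] (K R : Subgroup G) [(R.subgroupOf K).Normal] :
    Lib.Involves.Involves G (↥K ⧸ R.subgroupOf K) :=
  ⟨K, QuotientGroup.mk' _, QuotientGroup.mk'_surjective _⟩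

/-- **Every section of a finite `Qd(p)`-free group, `p` odd, is `p`-stable in the normalizer form.** -/
theorem section_stable_of_qdFree {G : Type u} [Group G] [Finite G] {p : ℕ} [Fact p.Prime]
    (hp : p ≠ 2) (hG : ¬ Lib.Involves.Involves G ↥(Cfsg.qd p)) (K R : Subgroup G)
    [hR : (R.subgroupOf K).Normal] : IsNormalizerPStable p (↥K ⧸ R.subgroupOf K) :=
  isNormalizerPStable_of_qdFree hp fun h => hG (Lib.Involves.trans (involves_section K R) h)

/-- **Every section of a finite group with no section `SL(2, p)`, `p` odd, is `p`-stable in the normalizer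
form.** -/
theorem section_stable_of_not_involves {G : Type u} [Group G] [Finite G] {p : ℕ} [Fact p.Prime]
    (hp : p ≠ 2) (hG : ¬ Lib.Involves.Involves G (Matrix.SpecialLinearGroup (Fin 2) (ZMod p)))
    (K R : Subgroup G) [hR : (R.subgroupOf K).Normal] : IsNormalizerPStable p (↥K ⧸ R.subgroupOf K) :=
  isNormalizerPStable_of_not_involves hp fun h => hG (Lib.Involves.trans (involves_section K R) h)

/-- Transport of the normalizer form of `p`-stability along an isomorphism. -/
theorem isNormalizerPStable_congr {G G' : Type*} [Group G] [Group G'] {p : ℕ} (e : G ≃* G')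
    (h : IsNormalizerPStable p G) : IsNormalizerPStable p G' := by
  intro P' hP' g' hg' hq'
  obtain ⟨P, hP⟩ : ∃ P : Subgroup G, P = P'.comap e.toMonoidHom := ⟨_, rfl⟩
  have hPm : P.map e.toMonoidHom = P' := by
    rw [hP]; exact Subgroup.map_comap_eq_self_of_surjective e.surjective _
  obtain ⟨g, rfl⟩ := e.surjective g'
  subst hPm
  have hPp : IsPGroup p P := hP'.of_injective (e.toMonoidHom.subgroupMap P)
    (fun a b hab => Subtype.ext (e.injective (congrArg Subtype.val hab)))
  have hnm : ∀ x : G, e x ∈ normalizer ((P.map e.toMonoidHom : Subgroup G') : Set G') ↔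
      x ∈ normalizer (P : Set G) := by
    intro x
    have h1 := Subgroup.map_equiv_normalizer_eq P e
    constructor
    · intro hx
      have h2 : e x ∈ (normalizer (P : Set G)).map e.toMonoidHom := by rw [h1]; exact hx
      obtain ⟨y, hy, hyx⟩ := h2
      have : y = x := e.injective hyx
      rwa [← this]
    · intro hx
      have h2 : e x ∈ (normalizer (P : Set G)).map e.toMonoidHom := ⟨x, hx, rfl⟩
      rw [h1] at h2
      exact h2
  have hg : g ∈ normalizer (P : Set G) := (hnm g).mp hg'
  have hq : ⁅⁅P, zpowers g⁆, zpowers g⁆ = ⊥ := by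
    apply Subgroup.map_injective (f := e.toMonoidHom) e.injective
    have h1 : (zpowers g).map e.toMonoidHom = zpowers (e g) := by
      rw [MonoidHom.map_zpowers]; rfl
    change (⁅⁅P, zpowers g⁆, zpowers g⁆).map e.toMonoidHom = (⊥ : Subgroup G).map e.toMonoidHom
    rw [map_commutator, map_commutator, h1, hq', Subgroup.map_bot]
  have h1 := h P hPp g hg hq
  -- the induced isomorphism of the normalizers
  let E : ↥(normalizer (P : Set G)) ≃* ↥(normalizer ((P.map e.toMonoidHom : Subgroup G') : Set G')) :=
    { toFun := fun x => ⟨e (x : G), (hnm x).mpr x.2⟩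
      invFun := fun y => ⟨e.symm (y : G'), (hnm _).mp (by rw [e.apply_symm_apply]; exact y.2)⟩
      left_inv := fun x => Subtype.ext (e.symm_apply_apply (x : G))
      right_inv := fun y => Subtype.ext (e.apply_symm_apply (y : G'))
      map_mul' := fun x y => Subtype.ext (map_mul e (x : G) (y : G)) }
  have hE : ((centralizer (P : Set G)).subgroupOf (normalizer (P : Set G))).map E.toMonoidHom =
      (centralizer ((P.map e.toMonoidHom : Subgroup G') : Set G')).subgroupOf
        (normalizer ((P.map e.toMonoidHom : Subgroup G') : Set G')) := by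
    ext y
    constructor
    · rintro ⟨x, hx, rfl⟩
      rw [mem_subgroupOf, mem_centralizer_iff]
      rintro _ ⟨z, hz, rfl⟩
      have h2 := mem_centralizer_iff.mp (mem_subgroupOf.mp hx) z hz
      change e z * e x = e x * e z
      rw [← map_mul, h2, map_mul]
    · intro hy
      refine ⟨E.symm y, ?_, E.apply_symm_apply y⟩
      change E.symm y ∈ (centralizer (P : Set G)).subgroupOf (normalizer (P : Set G))
      rw [mem_subgroupOf, mem_centralizer_iff]
      intro z hz
      have h2 := mem_centralizer_iff.mp (mem_subgroupOf.mp hy) (e z) ⟨z, hz, rfl⟩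
      apply e.injective
      rw [map_mul, map_mul]
      have h3 : e ((E.symm y : ↥(normalizer (P : Set G))) : G) = (y : G') :=
        congrArg Subtype.val (E.apply_symm_apply y)
      rw [h3]
      exact h2
  let Q := QuotientGroup.congr _ _ E hE
  have h3 := Lib.Cores.map_equiv_pCore Q p
  have h4 : Q (QuotientGroup.mk (⟨g, hg⟩ : ↥(normalizer (P : Set G)))) ∈ pCore p _ := by
    rw [← h3]
    exact ⟨_, h1, rfl⟩
  exact h4

end Cfsg.Agent.H37.Stable
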