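import Mathlib
import Cfsg.Prelude.Def_LocalEven
import Cfsg.Prelude.Def_ConjugacyFunctors
import Cfsg.Agent.H35.KSeq
import Cfsg.Agent.H35.Cubic2
import Cfsg.Agent.H37.Stable
import Cfsg.Agent.H41.Functor

/-!
# The K-infinity subgroups in groups whose sections are stable
-/

set_option autoImplicit false

universe u

namespace Cfsg.Agent.H37.KInf

open Cfsg Subgroup

/-- In a constrained group with stable quotients the lower K-infinity subgroup of a Sylow subgroup is normal. -/
theorem kInf_normal {H : Type u} [Group H] [Finite H] {p : ℕ} [Fact p.Prime]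
    (hc : centralizer (pCore p H : Set H) ≤ pCore p H)
    (hst : ∀ (N : Subgroup H) [N.Normal], IsNormalizerPStable p (H ⧸ N)) (T : Sylow p H) :
    (inducedFunctor kInfLower (T : Subgroup H)).Normal :=
  (H35.Cubic2.stable_normal_sylow T hc (fun N _ => hst N)).1

/-- In a constrained group with stable quotients the upper K-infinity subgroup of a Sylow subgroup is normal. -/
theorem kInfUpper_normal {H : Type u} [Group H] [Finite H] {p : ℕ} [Fact p.Prime]
    (hc : centralizer (pCore p H : Set H) ≤ pCore p H)
    (hst : ∀ (N : Subgroup H) [N.Normal], IsNormalizerPStable p (H ⧸ N)) (T : Sylow p H) :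
    (inducedFunctor kInfUpper (T : Subgroup H)).Normal :=
  (H35.Cubic2.stable_normal_sylow T hc (fun N _ => hst N)).2

/-- every quotient of a section of `G` is `p`-stable when all sections of `G` are -/
theorem quotient_stable {G : Type u} [Group G] {p : ℕ}
    (hst : ∀ (K R : Subgroup G) [hR : (R.subgroupOf K).Normal], IsNormalizerPStable p (↥K ⧸ R.subgroupOf K))
    {H : Type u} [Group H] (hH : H41.Functor.IsSection G H) : IsNormalizerPStable p H := by
  obtain ⟨K, R, hR, ⟨e⟩⟩ := hH.exists_equiv
  exact H37.Stable.isNormalizerPStable_congr e (hst K R)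

theorem isSection_quotient {G : Type u} [Group G] (K R : Subgroup G) [(R.subgroupOf K).Normal] :
    H41.Functor.IsSection G (↥K ⧸ R.subgroupOf K) :=
  ⟨K, QuotientGroup.mk' _, QuotientGroup.mk'_surjective _⟩

end Cfsg.Agent.H37.KInf
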