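import Mathlib
import Cfsg.Prelude.Def_LocalEven
import Cfsg.Prelude.Def_ConjugacyFunctors
import Cfsg.Agent.H37.Control
import Cfsg.Agent.H41.Functor

/-!
# Control of strong fusion by a functor in all sections

`controls_section`: if the functor `W` controls strong fusion in all sections `K / R` of `G`, it does so in every group
isomorphic to a section.
-/

set_option autoImplicit false

universe u

namespace Cfsg.Agent.H37.SecControl

open Cfsg Subgroup

/-- a Sylow subgroup of the source of an isomorphism -/
theorem exists_sylow_comap {X Y : Type*} [Group X] [Group Y] {p : ℕ} (e : X ≃* Y) (P : Sylow p Y) :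
    ∃ T : Sylow p X, (T : Subgroup X) = (P : Subgroup Y).comap e.toMonoidHom := by
  have hTr : (P : Subgroup Y) ≤ e.toMonoidHom.range := by
    rw [MonoidHom.range_eq_top.mpr e.surjective]
    exact le_top
  have hinj : Function.Injective e.toMonoidHom := e.injective
  exact ⟨P.comapOfInjective e.toMonoidHom hinj hTr, Sylow.coe_comapOfInjective _ _ _ _⟩

/-- Transport of the control of strong fusion by a functor. -/
theorem controls_of_equiv {p : ℕ} (W : ∀ (Q : Type u) [Group Q], Subgroup Q) (hW : IsCharPFunctor.{u} p W)
    {X Y : Type u} [Group X] [Group Y] [Finite X] (e : X ≃* Y)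
    (h : ∀ T : Sylow p X, ControlsStrongFusion p (inducedFunctor W (T : Subgroup X))) (P : Sylow p Y) :
    ControlsStrongFusion p (inducedFunctor W (P : Subgroup Y)) := by
  obtain ⟨T, hT⟩ := exists_sylow_comap e P
  have h2 := Control.controlsStrongFusion_congr e (h T)
  have hTr : (P : Subgroup Y) ≤ e.toMonoidHom.range := by
    rw [MonoidHom.range_eq_top.mpr e.surjective]
    exact le_top
  have hinj : Function.Injective e.toMonoidHom := e.injective
  have h3 : (inducedFunctor W (T : Subgroup X)).map e.toMonoidHom = inducedFunctor W (P : Subgroup Y) := by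
    rw [H41.Functor.map_inducedFunctor W hW e.toMonoidHom _ hinj.injOn (Sylow.isPGroup' _)]
    congr 1
    rw [hT, Subgroup.map_comap_eq_self hTr]
  rw [h3] at h2
  exact h2

/-- If `W` controls strong fusion in every section `K / R` of `G`, it does so in every group that is isomorphic to a
section of `G`. -/
theorem controls_section {p : ℕ} (W : ∀ (Q : Type u) [Group Q], Subgroup Q) (hW : IsCharPFunctor.{u} p W)
    {G H : Type u} [Group G] [Group H] [Finite G] (hH : H41.Functor.IsSection G H)
    (hctl : ∀ (K R : Subgroup G) [hR : (R.subgroupOf K).Normal] (T : Sylow p (↥K ⧸ R.subgroupOf K)),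
      ControlsStrongFusion p (inducedFunctor (G := (↥K ⧸ R.subgroupOf K)) W (T : Subgroup (↥K ⧸ R.subgroupOf K))))
    (P : Sylow p H) : ControlsStrongFusion p (inducedFunctor W (P : Subgroup H)) := by
  obtain ⟨K, R, hR, ⟨e⟩⟩ := hH.exists_equiv
  exact controls_of_equiv W hW e (fun T => hctl K R T) P

end Cfsg.Agent.H37.SecControl
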